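import Mathlib

/-!
# Equalizers of maps of finite étale algebras

The equalizer of two maps of finite étale algebras is finite étale and commutes with every base
change. Over a local ring which splits both algebras the two maps are given by maps of finite
sets, and the difference of the two maps has an explicit quasi-inverse.
-/

set_option autoImplicit false
set_option linter.style.haveILetI false

universe u

open TensorProduct

namespace Groth.Agent.FEtGal

/-- `δ` has a quasi-inverse. -/
def QI {A M N : Type*} [CommRing A] [AddCommGroup M] [Module A M] [AddCommGroup N] [Module A N]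
    (δ : M →ₗ[A] N) : Prop :=
  ∃ h : N →ₗ[A] M, δ ∘ₗ h ∘ₗ δ = δ

section Linear

variable {A : Type u} [CommRing A] {M N : Type u} [AddCommGroup M] [Module A M] [AddCommGroup N]
  [Module A N] {δ : M →ₗ[A] N}

theorem QI.baseChange (hδ : QI δ) (L : Type u) [CommRing L] [Algebra A L] :
    QI (δ.baseChange L) := by
  obtain ⟨h, hh⟩ := hδ
  exact ⟨h.baseChange L, by rw [← LinearMap.baseChange_comp, ← LinearMap.baseChange_comp, hh]⟩

theorem QI.projective_coker (hδ : QI δ) [Module.Projective A N] :
    Module.Projective A (N ⧸ LinearMap.range δ) := by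
  obtain ⟨h, hh⟩ := hδ
  have hle : LinearMap.range δ ≤ LinearMap.ker (LinearMap.id - δ ∘ₗ h) := by
    rintro _ ⟨x, rfl⟩
    simpa [sub_eq_zero] using (LinearMap.congr_fun hh x).symm
  refine Module.Projective.of_split ((LinearMap.range δ).liftQ _ hle) (LinearMap.range δ).mkQ ?_
  refine Submodule.linearMap_qext _ (LinearMap.ext fun x ↦ ?_)
  simp only [LinearMap.coe_comp, Function.comp_apply, Submodule.mkQ_apply, Submodule.liftQ_apply,
    LinearMap.id_coe, id_eq, LinearMap.sub_apply, Submodule.Quotient.mk_sub]
  rw [(Submodule.Quotient.mk_eq_zero _).2 (LinearMap.mem_range_self δ (h x)), sub_zero]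

theorem qi_of_projective_coker [Module.Projective A N]
    [Module.Projective A (N ⧸ LinearMap.range δ)] : QI δ := by
  obtain ⟨t, ht⟩ := Module.projective_lifting_property (LinearMap.range δ).mkQ LinearMap.id
    (Submodule.mkQ_surjective _)
  let r : N →ₗ[A] LinearMap.range δ := (LinearMap.id - t ∘ₗ (LinearMap.range δ).mkQ).codRestrict _
    fun x ↦ by
      refine (Submodule.Quotient.mk_eq_zero _).1 ?_
      show (LinearMap.range δ).mkQ _ = 0
      rw [LinearMap.sub_apply, map_sub, LinearMap.id_apply, LinearMap.comp_apply, sub_eq_zero]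
      exact (LinearMap.congr_fun ht _).symm
  have hr : r ∘ₗ (LinearMap.range δ).subtype = LinearMap.id := by
    refine LinearMap.ext fun x ↦ Subtype.ext ?_
    show (x : N) - t ((LinearMap.range δ).mkQ x) = x
    rw [Submodule.mkQ_apply, (Submodule.Quotient.mk_eq_zero _).2 x.2, map_zero, sub_zero]
  have : Module.Projective A (LinearMap.range δ) := Module.Projective.of_split _ r hr
  obtain ⟨s, hs⟩ := Module.projective_lifting_property δ.rangeRestrict LinearMap.id
    δ.surjective_rangeRestrict
  refine ⟨s ∘ₗ r, LinearMap.ext fun x ↦ ?_⟩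
  have h1 : r (δ x) = ⟨δ x, LinearMap.mem_range_self δ x⟩ :=
    LinearMap.congr_fun hr ⟨δ x, LinearMap.mem_range_self δ x⟩
  have h2 := congrArg Subtype.val (LinearMap.congr_fun hs ⟨δ x, LinearMap.mem_range_self δ x⟩)
  simp only [LinearMap.coe_comp, Function.comp_apply, h1]
  exact h2

variable (δ) in
/-- Cokernels commute with base change. -/
noncomputable def cokerBaseChange (L : Type u) [CommRing L] [Algebra A L] :
    ((L ⊗[A] N) ⧸ LinearMap.range (δ.baseChange L)) ≃ₗ[L] L ⊗[A] (N ⧸ LinearMap.range δ) :=
  let g := (LinearMap.range δ).mkQ.baseChange L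
  have h₁ : Function.Exact (δ.baseChange L) g :=
    lTensor_exact L (LinearMap.exact_map_mkQ_range δ) (Submodule.mkQ_surjective _)
  have h₂ : Function.Surjective g := LinearMap.lTensor_surjective L (Submodule.mkQ_surjective _)
  (Submodule.quotEquivOfEq _ _ h₁.linearMap_ker_eq.symm).trans (g.quotKerEquivOfSurjective h₂)

theorem flat_coker_of_qi_baseChange (L : Type u) [CommRing L] [Algebra A L]
    [Module.FaithfullyFlat A L] [Module.Projective A N] (h : QI (δ.baseChange L)) :
    Module.Flat A (N ⧸ LinearMap.range δ) := by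
  have := h.projective_coker
  have : Module.Flat L (L ⊗[A] (N ⧸ LinearMap.range δ)) :=
    Module.Flat.of_linearEquiv (cokerBaseChange δ L).symm
  exact Module.Flat.of_flat_tensorProduct A _ L

end Linear

section Split

variable {L : Type u} [CommRing L] [IsLocalRing L]

theorem exists_eval_of_algHom {ι : Type*} [Finite ι] (f : (ι → L) →ₐ[L] L) :
    ∃ i, ∀ x, f x = x i := by
  classical
  cases nonempty_fintype ι
  have h1 : ∑ i, f (Pi.single i 1) = 1 := by
    rw [← map_sum, Finset.univ_sum_single fun _ : ι ↦ (1 : L)]; exact map_one f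
  obtain ⟨i, hi⟩ : ∃ i, IsUnit (f (Pi.single i 1)) := by
    by_contra hcon
    push Not at hcon
    have : (1 : L) ∈ IsLocalRing.maximalIdeal L := by
      rw [← h1]
      exact Ideal.sum_mem _ fun i _ ↦ hcon i
    exact (IsLocalRing.maximalIdeal.isMaximal L).ne_top ((Ideal.eq_top_iff_one _).2 this)
  have he : f (Pi.single i 1) = 1 := by
    refine hi.mul_left_cancel ?_
    rw [← map_mul, ← Pi.single_mul, mul_one, mul_one]
  refine ⟨i, fun x ↦ ?_⟩
  have : x * Pi.single i 1 = x i • Pi.single i 1 := by
    ext j
    by_cases h : j = i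
    · subst h; simp
    · simp [Pi.single_eq_of_ne h]
  calc f x = f (x * Pi.single i 1) := by rw [map_mul, he, mul_one]
    _ = x i := by rw [this, map_smul, he, smul_eq_mul, mul_one]

theorem exists_fun_of_algHom {ι κ : Type*} [Finite ι] (f : (ι → L) →ₐ[L] (κ → L)) :
    ∃ σ : κ → ι, ∀ x j, f x j = x (σ j) := by
  choose σ hσ using fun j ↦ exists_eval_of_algHom ((Pi.evalAlgHom L (fun _ : κ ↦ L) j).comp f)
  exact ⟨σ, fun x j ↦ hσ j x⟩

theorem split_equalizer {n m : ℕ} (a b : (Fin n → L) →ₐ[L] (Fin m → L)) :
    QI (a.toLinearMap - b.toLinearMap) ∧ Algebra.IsFiniteSplit L (AlgHom.equalizer a b) := by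
  classical
  obtain ⟨σ, hσ⟩ := exists_fun_of_algHom a
  obtain ⟨τ, hτ⟩ := exists_fun_of_algHom b
  set δ := a.toLinearMap - b.toLinearMap with hδ
  have hδj : ∀ x j, δ x j = x (σ j) - x (τ j) := fun x j ↦ by simp [hδ, hσ, hτ]
  let S : Setoid (Fin n) :=
    { r := fun i j ↦ ∃ g : (Fin m → L) →ₗ[L] L, ∀ x, g (δ x) = x i - x j
      iseqv :=
        { refl := fun i ↦ ⟨0, fun x ↦ by simp⟩
          symm := fun ⟨g, hg⟩ ↦ ⟨-g, fun x ↦ by rw [LinearMap.neg_apply, hg, neg_sub]⟩
          trans := fun ⟨g, hg⟩ ⟨g', hg'⟩ ↦
            ⟨g + g', fun x ↦ by rw [LinearMap.add_apply, hg, hg', sub_add_sub_cancel]⟩ } }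
  let q : Fin n → Quotient S := Quotient.mk S
  let rep : Fin n → Fin n := fun i ↦ (q i).out
  choose g hg using fun i ↦ (show S.r i (rep i) from Quotient.exact (Quotient.out_eq (q i)).symm)
  have hστ : ∀ j, q (σ j) = q (τ j) := fun j ↦
    Quotient.sound ⟨LinearMap.proj j, fun x ↦ hδj x j⟩
  have hrep : ∀ j, rep (σ j) = rep (τ j) := fun j ↦ congrArg Quotient.out (hστ j)
  refine ⟨⟨LinearMap.pi g, LinearMap.ext fun x ↦ funext fun j ↦ ?_⟩, ?_⟩
  · simp only [LinearMap.coe_comp, Function.comp_apply, hδj, LinearMap.pi_apply, hg, hrep]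
    abel
  · let ψ₀ : (Quotient S → L) →ₐ[L] (Fin n → L) := AlgHom.pi fun i ↦ Pi.evalAlgHom L _ (q i)
    have hmem : ∀ y, ψ₀ y ∈ AlgHom.equalizer a b := fun y ↦ by
      rw [AlgHom.mem_equalizer]
      ext j
      simp [hσ, hτ, ψ₀, hστ]
    refine Algebra.IsFiniteSplit.of_algEquiv
      (AlgEquiv.ofBijective (ψ₀.codRestrict (AlgHom.equalizer a b) hmem) ⟨?_, ?_⟩)
    · intro y y' hy
      funext c
      obtain ⟨i, rfl⟩ := Quotient.exists_rep c
      exact congr_fun (congrArg Subtype.val hy) i
    · rintro ⟨x, hx⟩
      refine ⟨fun c ↦ x c.out, Subtype.ext (funext fun i ↦ ?_)⟩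
      show x (rep i) = x i
      have h0 : δ x = 0 := by
        rw [hδ, LinearMap.sub_apply, sub_eq_zero]; exact hx
      have := hg i x
      rw [h0, map_zero] at this
      exact (sub_eq_zero.1 this.symm).symm

theorem split_equalizer' {B C : Type u} [CommRing B] [CommRing C] [Algebra L B] [Algebra L C]
    [Algebra.IsFiniteSplit L B] [Algebra.IsFiniteSplit L C] (a b : B →ₐ[L] C) :
    QI (a.toLinearMap - b.toLinearMap) ∧ Algebra.IsFiniteSplit L (AlgHom.equalizer a b) := by
  obtain ⟨n, ⟨eB⟩⟩ := Algebra.IsFiniteSplit.nonempty_algEquiv_fun L B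
  obtain ⟨m, ⟨eC⟩⟩ := Algebra.IsFiniteSplit.nonempty_algEquiv_fun L C
  obtain ⟨⟨h, hh⟩, hs⟩ := split_equalizer (eC.toAlgHom.comp (a.comp eB.symm.toAlgHom))
    (eC.toAlgHom.comp (b.comp eB.symm.toAlgHom))
  refine ⟨⟨eB.symm.toLinearMap ∘ₗ h ∘ₗ eC.toLinearMap, LinearMap.ext fun x ↦ ?_⟩, ?_⟩
  · have := congrArg eC.symm (LinearMap.congr_fun hh (eB x))
    simpa using this
  · let f : AlgHom.equalizer a b →ₐ[L] AlgHom.equalizer
        (eC.toAlgHom.comp (a.comp eB.symm.toAlgHom)) (eC.toAlgHom.comp (b.comp eB.symm.toAlgHom)) :=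
      (eB.toAlgHom.comp (AlgHom.equalizer a b).val).codRestrict _ fun x ↦ by
        rw [AlgHom.mem_equalizer]
        simpa using congrArg eC x.2
    have hf : Function.Bijective f := by
      refine ⟨fun x y hxy ↦ Subtype.ext (eB.injective (congrArg Subtype.val hxy)), fun y ↦ ?_⟩
      refine ⟨⟨eB.symm y, ?_⟩, Subtype.ext (eB.apply_symm_apply y)⟩
      exact eC.injective y.2
    exact Algebra.IsFiniteSplit.of_algEquiv (AlgEquiv.ofBijective f hf).symm

end Split

theorem exists_local_split {A : Type u} [CommRing A] [IsLocalRing A] (B : Type u) [CommRing B]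
    [Algebra A B] [Module.Finite A B] [Algebra.Etale A B] :
    ∃ (L : Type u) (_ : CommRing L) (_ : IsLocalRing L) (_ : Algebra A L)
      (_ : Module.FaithfullyFlat A L), Algebra.IsFiniteSplit L (L ⊗[A] B) := by
  have : Module.FinitePresentation A B := Module.FinitePresentation.of_finite_of_finitePresentation _ _
  have : Module.Free A B := Module.free_of_flat_of_isLocalRing
  have hn : Module.rankAtStalk (R := A) B = Module.finrank A B :=
    Module.rankAtStalk_eq_finrank_of_free
  obtain ⟨T, _, _, _, _, _, hT⟩ := Algebra.IsFiniteSplit.exists_tensorProduct_of_etale hn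
  obtain ⟨Q, hQ⟩ := PrimeSpectrum.comap_surjective_of_faithfullyFlat (A := A) (B := T)
    (IsLocalRing.closedPoint A)
  have : Module.Flat A (Localization.AtPrime Q.asIdeal) := Module.Flat.trans A T _
  have : IsLocalHom (algebraMap A (Localization.AtPrime Q.asIdeal)) := by
    refine ((IsLocalRing.local_hom_TFAE _).out 0 4).2 ?_
    rw [IsScalarTower.algebraMap_eq A T (Localization.AtPrime Q.asIdeal), ← Ideal.comap_comap,
      ← Ideal.under_def T (IsLocalRing.maximalIdeal (Localization.AtPrime Q.asIdeal)),
      IsLocalization.AtPrime.under_maximalIdeal (Localization.AtPrime Q.asIdeal) Q.asIdeal]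
    exact congrArg PrimeSpectrum.asIdeal hQ
  refine ⟨Localization.AtPrime Q.asIdeal, inferInstance, inferInstance, inferInstance,
    Module.FaithfullyFlat.of_flat_of_isLocalHom, ?_⟩
  exact Algebra.IsFiniteSplit.of_algEquiv (Algebra.TensorProduct.cancelBaseChange A T
    (Localization.AtPrime Q.asIdeal) (Localization.AtPrime Q.asIdeal) B)

theorem exists_local_split₂ {A : Type u} [CommRing A] [IsLocalRing A] (B C : Type u) [CommRing B]
    [Algebra A B] [Module.Finite A B] [Algebra.Etale A B] [CommRing C] [Algebra A C]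
    [Module.Finite A C] [Algebra.Etale A C] :
    ∃ (L : Type u) (_ : CommRing L) (_ : IsLocalRing L) (_ : Algebra A L)
      (_ : Module.FaithfullyFlat A L),
      Algebra.IsFiniteSplit L (L ⊗[A] B) ∧ Algebra.IsFiniteSplit L (L ⊗[A] C) := by
  obtain ⟨L, _, _, _, _, hB⟩ := exists_local_split (A := A) B
  obtain ⟨L', _, _, _, _, hC⟩ := exists_local_split (A := L) (L ⊗[A] C)
  let _ : Algebra A L' := ((algebraMap L L').comp (algebraMap A L)).toAlgebra
  have : IsScalarTower A L L' := IsScalarTower.of_algebraMap_eq' rfl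
  refine ⟨L', inferInstance, inferInstance, inferInstance, Module.FaithfullyFlat.trans A L L', ?_, ?_⟩
  · exact Algebra.IsFiniteSplit.of_algEquiv
      (Algebra.TensorProduct.cancelBaseChange A L L' L' B)
  · exact Algebra.IsFiniteSplit.of_algEquiv
      (Algebra.TensorProduct.cancelBaseChange A L L' L' C)

section Main

variable {A B C : Type u} [CommRing A] [CommRing B] [CommRing C] [Algebra A B] [Algebra A C]
  (a b : B →ₐ[A] C) (L : Type u) [CommRing L] [Algebra A L]

/-- The base change of a map of algebras. -/
noncomputable def bc (f : B →ₐ[A] C) : L ⊗[A] B →ₐ[L] L ⊗[A] C :=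
  Algebra.TensorProduct.map (AlgHom.id L L) f

theorem bc_toLinearMap :
    (bc L a).toLinearMap - (bc L b).toLinearMap =
      (a.toLinearMap - b.toLinearMap).baseChange L := by
  rw [LinearMap.baseChange_sub]
  rfl

/-- The comparison map for equalizers and base change. -/
noncomputable def comp : L ⊗[A] AlgHom.equalizer a b →ₐ[L] AlgHom.equalizer (bc L a) (bc L b) :=
  (bc L (AlgHom.equalizer a b).val).codRestrict _ fun z ↦ by
    rw [AlgHom.mem_equalizer]
    induction z using TensorProduct.induction_on with
    | zero => simp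
    | tmul l x => exact congrArg (l ⊗ₜ[A] ·) x.2
    | add p q hp hq => rw [map_add, map_add, map_add, hp, hq]

theorem comp_val (z : L ⊗[A] AlgHom.equalizer a b) :
    (comp a b L z : L ⊗[A] B) = bc L (AlgHom.equalizer a b).val z :=
  rfl

variable {a b}

theorem exists_retraction (h : QI (a.toLinearMap - b.toLinearMap)) :
    ∃ (g : C →ₗ[A] B) (e : B →ₗ[A] AlgHom.equalizer a b),
      e ∘ₗ (AlgHom.equalizer a b).val.toLinearMap = LinearMap.id ∧
      (AlgHom.equalizer a b).val.toLinearMap ∘ₗ e =
        LinearMap.id - g ∘ₗ (a.toLinearMap - b.toLinearMap) := by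
  obtain ⟨g, hg⟩ := h
  set δ := a.toLinearMap - b.toLinearMap with hδ
  let p : B →ₗ[A] B := LinearMap.id - g ∘ₗ δ
  have hp : ∀ x, p x ∈ Subalgebra.toSubmodule (AlgHom.equalizer a b) := fun x ↦ by
    have h0 : δ (p x) = 0 := by
      show δ (x - g (δ x)) = 0
      rw [map_sub, sub_eq_zero]
      exact (LinearMap.congr_fun hg x).symm
    rw [hδ, LinearMap.sub_apply, sub_eq_zero] at h0
    exact h0
  let e : B →ₗ[A] AlgHom.equalizer a b :=
    LinearMap.codRestrict (Subalgebra.toSubmodule (AlgHom.equalizer a b)) p hp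
  refine ⟨g, e, LinearMap.ext fun x ↦ Subtype.ext ?_, rfl⟩
  show (x : B) - g (δ x) = x
  have : δ x = 0 := sub_eq_zero.2 x.2
  rw [this, map_zero, sub_zero]

theorem comp_bijective (h : QI (a.toLinearMap - b.toLinearMap)) :
    Function.Bijective (comp a b L) := by
  obtain ⟨g, e, he, hh⟩ := exists_retraction h
  set δ := a.toLinearMap - b.toLinearMap
  constructor
  · intro z z' hz
    have h1 := congrArg (e.baseChange L) (congrArg Subtype.val hz)
    rw [comp_val, comp_val] at h1
    have h2 : ∀ w, e.baseChange L (bc L (AlgHom.equalizer a b).val w) = w := fun w ↦ by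
      have := LinearMap.congr_fun (congrArg (LinearMap.baseChange L) he) w
      rwa [LinearMap.baseChange_comp, LinearMap.baseChange_id] at this
    rwa [h2, h2] at h1
  · rintro ⟨y, hy⟩
    refine ⟨e.baseChange L y, Subtype.ext ?_⟩
    rw [comp_val]
    have h0 : δ.baseChange L y = 0 := by
      rw [← bc_toLinearMap, LinearMap.sub_apply]
      exact sub_eq_zero.2 hy
    have h1 := LinearMap.congr_fun (congrArg (LinearMap.baseChange L) hh) y
    rw [LinearMap.baseChange_comp, LinearMap.baseChange_sub, LinearMap.baseChange_comp,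
      LinearMap.baseChange_id] at h1
    simp only [LinearMap.sub_apply, LinearMap.comp_apply, h0, map_zero, sub_zero,
      LinearMap.id_apply] at h1
    exact h1

variable [Module.Finite A B] [Algebra.Etale A B] [Module.Finite A C] [Algebra.Etale A C]
variable (a b)

theorem local_main [IsLocalRing A] :
    Module.Flat A (C ⧸ LinearMap.range (a.toLinearMap - b.toLinearMap)) ∧
      (QI (a.toLinearMap - b.toLinearMap) → Algebra.Etale A (AlgHom.equalizer a b)) := by
  have : Module.FinitePresentation A C := Module.FinitePresentation.of_finite_of_finitePresentation _ _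
  have : Module.Projective A C := Module.Flat.projective_of_finitePresentation
  obtain ⟨L, _, _, _, _, _, _⟩ := exists_local_split₂ (A := A) B C
  obtain ⟨hq, hs⟩ := split_equalizer' (bc L a) (bc L b)
  rw [bc_toLinearMap] at hq
  refine ⟨flat_coker_of_qi_baseChange L hq, fun h ↦ ?_⟩
  have : Algebra.IsFiniteSplit L (L ⊗[A] AlgHom.equalizer a b) :=
    Algebra.IsFiniteSplit.of_algEquiv (AlgEquiv.ofBijective _ (comp_bijective L h)).symm
  exact Algebra.Etale.of_etale_tensorProduct_of_faithfullyFlat L

theorem qi : QI (a.toLinearMap - b.toLinearMap) := by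
  have : Module.FinitePresentation A C := Module.FinitePresentation.of_finite_of_finitePresentation _ _
  have : Module.Projective A C := Module.Flat.projective_of_finitePresentation
  set δ := a.toLinearMap - b.toLinearMap with hδ
  have : Module.Flat A (C ⧸ LinearMap.range δ) := by
    refine Module.flat_of_localized_maximal _ fun P _ ↦ ?_
    let Am := Localization P.primeCompl
    have hf := (local_main (bc Am a) (bc Am b)).1
    rw [bc_toLinearMap] at hf
    have : Module.Flat Am (Am ⊗[A] (C ⧸ LinearMap.range δ)) :=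
      Module.Flat.of_linearEquiv (cokerBaseChange δ Am).symm
    have : Module.Flat A (Am ⊗[A] (C ⧸ LinearMap.range δ)) := Module.Flat.trans A Am _
    exact Module.Flat.of_linearEquiv
      ((LocalizedModule.equivTensorProduct P.primeCompl _).restrictScalars A)
  have : Module.FinitePresentation A (C ⧸ LinearMap.range δ) := by
    refine Module.finitePresentation_of_surjective (LinearMap.range δ).mkQ
      (Submodule.mkQ_surjective _) ?_
    rw [Submodule.ker_mkQ, LinearMap.range_eq_map]
    exact Module.Finite.fg_top.map δ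
  have : Module.Projective A (C ⧸ LinearMap.range δ) := Module.Flat.projective_of_finitePresentation
  exact qi_of_projective_coker

theorem equalizer_bc_bijective : Function.Bijective (comp a b L) :=
  comp_bijective L (qi a b)

theorem finite_equalizer : Module.Finite A (AlgHom.equalizer a b) := by
  obtain ⟨g, e, he, -⟩ := exists_retraction (qi a b)
  exact Module.Finite.of_surjective e fun x ↦ ⟨x.1, LinearMap.congr_fun he x⟩

theorem etale_equalizer : Algebra.Etale A (AlgHom.equalizer a b) := by
  have := finite_equalizer a b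
  have : Module.FinitePresentation A B := Module.FinitePresentation.of_finite_of_finitePresentation _ _
  have : Module.Projective A B := Module.Flat.projective_of_finitePresentation
  have : Module.Projective A (AlgHom.equalizer a b) := by
    obtain ⟨g, e, he, -⟩ := exists_retraction (qi a b)
    exact Module.Projective.of_split (AlgHom.equalizer a b).val.toLinearMap e he
  have : Module.FinitePresentation A (AlgHom.equalizer a b) :=
    Module.finitePresentation_of_projective A _
  have : Algebra.FinitePresentation A (AlgHom.equalizer a b) :=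
    Algebra.FinitePresentation.of_finitePresentation _ _
  refine Algebra.etaleLocus_eq_univ_iff_etale.1 (Set.eq_univ_of_forall fun q ↦ ?_)
  let E := AlgHom.equalizer a b
  let p := q.asIdeal.under A
  let Am := Localization.AtPrime p
  have : Algebra.Etale Am (Am ⊗[A] E) := by
    have := (local_main (bc Am a) (bc Am b)).2 (qi _ _)
    exact Algebra.Etale.of_equiv (AlgEquiv.ofBijective _ (equalizer_bc_bijective a b Am)).symm
  let E' := Localization (Algebra.algebraMapSubmonoid E p.primeCompl)
  haveI : Algebra.IsPushout A Am E E' :=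
    .symm <| Algebra.isPushout_of_isLocalization p.primeCompl _ _ _
  haveI : Algebra.Etale Am E' := .of_equiv (Algebra.IsPushout.equiv A Am E E')
  have hdisj : Disjoint (Algebra.algebraMapSubmonoid E p.primeCompl : Set E) (q.asIdeal : Set E) := by
    rw [Set.disjoint_left]
    rintro _ ⟨x, hx, rfl⟩ h
    exact hx h
  let q' : Ideal E' := q.asIdeal.map (algebraMap E E')
  haveI hq' : q'.IsPrime :=
    IsLocalization.isPrime_of_isPrime_disjoint (Algebra.algebraMapSubmonoid E p.primeCompl) _ _ q.2 hdisj
  have hcomap : q'.comap (algebraMap E E') = q.asIdeal :=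
    IsLocalization.under_map_of_isPrime_disjoint (Algebra.algebraMapSubmonoid E p.primeCompl) E' q.2 hdisj
  haveI : IsLocalization.AtPrime (Localization.AtPrime q') q.asIdeal := by
    have := IsLocalization.isLocalization_isLocalization_atPrime_isLocalization
      (S := E') (Algebra.algebraMapSubmonoid E p.primeCompl) (Localization.AtPrime q') q'
    simpa only [hcomap] using this
  haveI : Algebra.FormallyEtale A Am := Algebra.FormallyEtale.of_isLocalization p.primeCompl
  haveI : Algebra.FormallyEtale A E' := Algebra.FormallyEtale.comp A Am E'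
  haveI : Algebra.FormallyEtale E' (Localization.AtPrime q') :=
    Algebra.FormallyEtale.of_isLocalization q'.primeCompl
  haveI : Algebra.FormallyEtale A (Localization.AtPrime q') := Algebra.FormallyEtale.comp A E' _
  exact Algebra.FormallyEtale.of_equiv (A := Localization.AtPrime q') ((IsLocalization.algEquiv q.asIdeal.primeCompl
    (Localization.AtPrime q') (Localization.AtPrime q.asIdeal)).restrictScalars A)

end Main

end Groth.Agent.FEtGal
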