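import Mathlib
import Groth.Agent.FEtGal.Equalizer

/-!
# Coequalizers of affine schemes over an affine base, and their base change
-/

set_option autoImplicit false
set_option linter.style.haveILetI false

universe u

open CategoryTheory CategoryTheory.Limits AlgebraicGeometry TensorProduct

noncomputable section

namespace Groth.Agent.FEtGal

theorem comp_bijective_of_flat {A B C : Type u} [CommRing A] [CommRing B] [CommRing C]
    [Algebra A B] [Algebra A C] (a b : B →ₐ[A] C) (L : Type u) [CommRing L] [Algebra A L]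
    [Module.Flat A L] : Function.Bijective (comp a b L) := by
  have key : ∀ x, (comp a b L x).1 = (AlgHom.tensorEqualizerEquiv L L a b x).1 := fun x ↦ by
    rw [comp_val, AlgHom.tensorEqualizerEquiv_apply, AlgHom.coe_tensorEqualizer]; rfl
  refine ⟨fun x y h ↦ ?_, fun z ↦ ?_⟩
  · refine (AlgHom.tensorEqualizerEquiv L L a b).injective (Subtype.ext ?_)
    rw [← key, ← key, h]
  · obtain ⟨x, hx⟩ := (AlgHom.tensorEqualizerEquiv L L a b).surjective ⟨z.1, z.2⟩
    exact ⟨x, Subtype.ext ((key x).trans (congrArg Subtype.val hx))⟩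

/-- The property used for the ambient category of affine morphisms. -/
abbrev affProp : MorphismProperty Scheme.{u} := @IsAffineHom

/-- Schemes affine over `S`. -/
abbrev Aff (S : Scheme.{u}) : Type (u + 1) := affProp.{u}.Over ⊤ S

variable {S : Scheme.{u}} [IsAffine S]

instance isAffine_left (Y : Aff S) : IsAffine Y.left :=
  haveI : IsAffineHom Y.hom := Y.prop
  isAffine_of_isAffineHom (Y := S) Y.hom

theorem isoSpec_inv_appTop' (W : Scheme.{u}) [IsAffine W] :
    W.isoSpec.inv.appTop = (Scheme.ΓSpecIso Γ(W, ⊤)).inv := by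
  have h := congrArg Scheme.Hom.appTop W.isoSpec.hom_inv_id
  rw [Scheme.Hom.comp_appTop, show W.isoSpec.hom = W.toSpecΓ from rfl,
    Scheme.toSpecΓ_appTop, Scheme.Hom.id_appTop] at h
  exact (Iso.comp_hom_eq_id _).1 h

theorem toSpecΓ_specMap_appTop {C : Scheme.{u}} {R : CommRingCat.{u}} (φ : R ⟶ Γ(C, ⊤)) :
    (C.toSpecΓ ≫ Spec.map φ).appTop = (Scheme.ΓSpecIso R).hom ≫ φ := by
  rw [Scheme.Hom.comp_appTop, Scheme.toSpecΓ_appTop]
  exact Scheme.ΓSpecIso_naturality φ

theorem exists_hom_appTop {C W : Scheme.{u}} [IsAffine W] (φ : Γ(W, ⊤) ⟶ Γ(C, ⊤)) :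
    ∃ h : C ⟶ W, h.appTop = φ := by
  refine ⟨(C.toSpecΓ ≫ Spec.map φ) ≫ W.isoSpec.inv, ?_⟩
  rw [Scheme.Hom.comp_appTop, toSpecΓ_specMap_appTop, isoSpec_inv_appTop', Iso.inv_hom_id_assoc]

/-- `π` is the coequalizer of affine schemes: on global sections it is an equalizer. -/
structure IsEqCofork {Z Y C : Aff S} (u v : Z ⟶ Y) (π : Y ⟶ C) : Prop where
  inj : Function.Injective π.left.appTop
  range : ∀ s, u.left.appTop s = v.left.appTop s → ∃ c, π.left.appTop c = s

theorem cofork_app_eq {Z Y W : Aff S} {u v : Z ⟶ Y} (t : Y ⟶ W) (h : u ≫ t = v ≫ t)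
    (x : Γ(W.left, ⊤)) : u.left.appTop (t.left.appTop x) = v.left.appTop (t.left.appTop x) := by
  have := congrArg (fun k => k.appTop x) (congrArg (fun k : Z ⟶ W => k.left) h)
  exact this

/-- Coequalizer in affine schemes over `S`. -/
def IsEqCofork.isColimit {Z Y C : Aff S} {u v : Z ⟶ Y} {π : Y ⟶ C} (hπ : IsEqCofork u v π)
    (w : u ≫ π = v ≫ π) : IsColimit (Cofork.ofπ π w) := by
  refine Classical.choice ?_
  have key : ∀ (W : Aff S) (t : Y ⟶ W), u ≫ t = v ≫ t → ∃! s : C ⟶ W, π ≫ s = t := by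
    intro W t ht
    choose φ hφ using fun x ↦ hπ.range (t.left.appTop x) (cofork_app_eq t ht x)
    let φ' : Γ(W.left, ⊤) →+* Γ(C.left, ⊤) :=
      { toFun := φ
        map_one' := hπ.inj (by rw [hφ, map_one, map_one])
        map_mul' := fun a b ↦ hπ.inj (by rw [hφ, map_mul, map_mul, hφ, hφ])
        map_zero' := hπ.inj (by rw [hφ, map_zero, map_zero])
        map_add' := fun a b ↦ hπ.inj (by rw [hφ, map_add, map_add, hφ, hφ]) }
    obtain ⟨h, hh⟩ := exists_hom_appTop (CommRingCat.ofHom φ')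
    have hw : π.left ≫ h = t.left := by
      refine ext_of_isAffine (CommRingCat.hom_ext (RingHom.ext fun x ↦ ?_))
      rw [Scheme.Hom.comp_appTop, hh]
      exact hφ x
    have hov : h ≫ W.hom = C.hom := by
      refine ext_of_isAffine (Y := S) (CommRingCat.hom_ext (RingHom.ext fun x ↦ hπ.inj ?_))
      have h1 := congrArg (fun k => k.appTop x)
        (show π.left ≫ h ≫ W.hom = π.left ≫ C.hom by
          rw [reassoc_of% hw, MorphismProperty.Over.w t, MorphismProperty.Over.w π])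
      exact h1
    refine ⟨MorphismProperty.Over.homMk h hov trivial, MorphismProperty.Over.Hom.ext hw,
      fun s hs ↦ MorphismProperty.Over.Hom.ext
        (ext_of_isAffine (CommRingCat.hom_ext (RingHom.ext fun x ↦ hπ.inj ?_)))⟩
    have h1 := congrArg (fun k => k.appTop x) ((congrArg (fun k : Y ⟶ W => k.left) hs).trans hw.symm)
    exact h1
  exact ⟨Cofork.IsColimit.ofExistsUnique fun s ↦ key s.pt s.π s.condition⟩

/-- The structure algebra on global sections. -/
abbrev algOf (Y : Aff S) : Algebra Γ(S, ⊤) Γ(Y.left, ⊤) := Y.hom.appTop.hom.toAlgebra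

attribute [local instance] algOf

/-- The algebra map of a morphism. -/
def algHom {Z Y : Aff S} (u : Z ⟶ Y) : Γ(Y.left, ⊤) →ₐ[Γ(S, ⊤)] Γ(Z.left, ⊤) :=
  { u.left.appTop.hom with
    commutes' := fun r ↦ by
      have := congrArg (fun k => k.appTop r) (MorphismProperty.Over.w u)
      exact this }

@[simp] theorem algHom_apply {Z Y : Aff S} (u : Z ⟶ Y) (x : Γ(Y.left, ⊤)) :
    algHom u x = u.left.appTop x := rfl

theorem algHom_comp {Z Y W : Aff S} (u : Z ⟶ Y) (t : Y ⟶ W) :
    algHom (u ≫ t) = (algHom u).comp (algHom t) := by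
  ext x
  rfl

/-- The coequalizer of `u` and `v`. -/
def coeqObj {Z Y : Aff S} (u v : Z ⟶ Y) : Aff S :=
  MorphismProperty.Over.mk ⊤
    (Spec.map (CommRingCat.ofHom (algebraMap Γ(S, ⊤) (AlgHom.equalizer (algHom u) (algHom v)))) ≫
      S.isoSpec.inv)
    (inferInstanceAs (IsAffineHom _))

/-- The projection to the coequalizer. -/
def coeqπ {Z Y : Aff S} (u v : Z ⟶ Y) : Y ⟶ coeqObj u v :=
  MorphismProperty.Over.homMk
    (Y.left.toSpecΓ ≫ Spec.map (CommRingCat.ofHom
      (AlgHom.equalizer (algHom u) (algHom v)).val.toRingHom))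
    (by
      refine ext_of_isAffine (Y := S) (CommRingCat.hom_ext (RingHom.ext fun x ↦ ?_))
      show ((Y.left.toSpecΓ ≫ Spec.map (CommRingCat.ofHom
          (AlgHom.equalizer (algHom u) (algHom v)).val.toRingHom)) ≫
        (Spec.map (CommRingCat.ofHom (algebraMap Γ(S, ⊤) (AlgHom.equalizer (algHom u) (algHom v)))) ≫
          S.isoSpec.inv)).appTop x = Y.hom.appTop x
      rw [Category.assoc, ← Spec.map_comp_assoc, ← Category.assoc, Scheme.Hom.comp_appTop,
        toSpecΓ_specMap_appTop, isoSpec_inv_appTop']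
      erw [Iso.inv_hom_id_assoc]
      rfl) trivial

theorem coeqπ_appTop {Z Y : Aff S} (u v : Z ⟶ Y) :
    (coeqπ u v).left.appTop = (Scheme.ΓSpecIso _).hom ≫ CommRingCat.ofHom
      (AlgHom.equalizer (algHom u) (algHom v)).val.toRingHom := by
  exact toSpecΓ_specMap_appTop _

theorem isEqCofork_coeqπ {Z Y : Aff S} (u v : Z ⟶ Y) : IsEqCofork u v (coeqπ u v) := by
  refine ⟨?_, fun s hs ↦ ?_⟩
  · rw [coeqπ_appTop]
    exact Subtype.val_injective.comp (ConcreteCategory.bijective_of_isIso (Scheme.ΓSpecIso (CommRingCat.of _)).hom).1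
  · refine ⟨(Scheme.ΓSpecIso _).inv (⟨s, hs⟩ : AlgHom.equalizer (algHom u) (algHom v)), ?_⟩
    rw [coeqπ_appTop]
    exact congrArg Subtype.val
      (Iso.inv_hom_id_apply (Scheme.ΓSpecIso (CommRingCat.of (AlgHom.equalizer (algHom u) (algHom v)))) ⟨s, hs⟩)

theorem coeqπ_condition {Z Y : Aff S} (u v : Z ⟶ Y) : u ≫ coeqπ u v = v ≫ coeqπ u v := by
  refine MorphismProperty.Over.Hom.ext (ext_of_isAffine (CommRingCat.hom_ext (RingHom.ext fun x ↦ ?_)))
  simp only [MorphismProperty.Comma.comp_left, Scheme.Hom.comp_appTop, coeqπ_appTop]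
  exact ((Scheme.ΓSpecIso _).hom x).2

instance hasCoequalizers_aff : HasCoequalizers (Aff S) := by
  have : ∀ {Z Y : Aff S} {u v : Z ⟶ Y}, HasColimit (parallelPair u v) := fun {Z Y u v} ↦
    ⟨⟨⟨_, (isEqCofork_coeqπ u v).isColimit (coeqπ_condition u v)⟩⟩⟩
  exact hasCoequalizers_of_hasColimit_parallelPair _

section BaseChange

variable {S' : Scheme.{u}} [IsAffine S'] (f : S' ⟶ S)

/-- The base change functor. -/
abbrev bcAff : Aff S ⥤ Aff S' := MorphismProperty.Over.pullback affProp.{u} ⊤ f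

/-- The algebra structure on `Γ(S')`. -/
abbrev algBase : Algebra Γ(S, ⊤) Γ(S', ⊤) := f.appTop.hom.toAlgebra

/-- `Γ(S') ⊗ Γ(Y) → Γ(Y')`. -/
def bcMap (Y : Aff S) :
    letI := algBase f
    Γ(S', ⊤) ⊗[Γ(S, ⊤)] Γ(Y.left, ⊤) →+* Γ(((bcAff f).obj Y).left, ⊤) :=
  letI := algBase f
  letI : Algebra Γ(S, ⊤) Γ(pullback Y.hom f, ⊤) :=
    ((pullback.snd Y.hom f).appTop.hom.comp f.appTop.hom).toAlgebra
  letI s : Γ(S', ⊤) →ₐ[Γ(S, ⊤)] Γ(pullback Y.hom f, ⊤) :=
    { (pullback.snd Y.hom f).appTop.hom with commutes' := fun _ ↦ rfl }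
  letI t : Γ(Y.left, ⊤) →ₐ[Γ(S, ⊤)] Γ(pullback Y.hom f, ⊤) :=
    { (pullback.fst Y.hom f).appTop.hom with
      commutes' := fun r ↦ by
        have := congrArg (fun k => k.appTop r) (pullback.condition (f := Y.hom) (g := f))
        exact this }
  (Algebra.TensorProduct.lift s t fun _ _ ↦ Commute.all _ _).toRingHom

theorem bcMap_tmul (Y : Aff S) (a : Γ(S', ⊤)) (m : Γ(Y.left, ⊤)) :
    letI := algBase f
    bcMap f Y (a ⊗ₜ[Γ(S, ⊤)] m) =
      (pullback.snd Y.hom f).appTop a * (pullback.fst Y.hom f).appTop m := rfl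

theorem bcMap_bijective (Y : Aff S) : Function.Bijective (bcMap f Y) := by
  letI := algBase f
  haveI : IsAffineHom Y.hom := Y.prop
  have H := isPushout_appTop_of_isPullback (X := S') (Y := Y.left) (Z := S)
    (IsPullback.of_hasPullback Y.hom f).flip
  have H₀ := CommRingCat.isPushout_tensorProduct Γ(S, ⊤) Γ(S', ⊤) Γ(Y.left, ⊤)
  have e : CommRingCat.ofHom (bcMap f Y) = (H₀.isoIsPushout _ _ H).hom := by
    refine H₀.hom_ext ?_ ?_
    · refine Eq.trans ?_ (IsPushout.inl_isoIsPushout_hom _ _ H₀ H).symm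
      ext a
      show bcMap f Y (a ⊗ₜ 1) = _
      rw [bcMap_tmul, map_one, mul_one]
      rfl
    · refine Eq.trans ?_ (IsPushout.inr_isoIsPushout_hom _ _ H₀ H).symm
      ext a
      show bcMap f Y (1 ⊗ₜ a) = _
      rw [bcMap_tmul, map_one, one_mul]
      rfl
  have : IsIso (CommRingCat.ofHom (bcMap f Y)) := by rw [e]; exact Iso.isIso_hom _
  exact ConcreteCategory.bijective_of_isIso (CommRingCat.ofHom (bcMap f Y))

theorem bcMap_natural {Z Y : Aff S} (u : Z ⟶ Y) :
    letI := algBase f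
    ∀ z, ((bcAff f).map u).left.appTop (bcMap f Y z) =
      bcMap f Z (bc Γ(S', ⊤) (algHom u) z) := by
  letI := algBase f
  intro z
  induction z using TensorProduct.induction_on with
  | zero => simp
  | tmul a m =>
    show _ = bcMap f Z (a ⊗ₜ u.left.appTop m)
    rw [bcMap_tmul, bcMap_tmul]
    refine (map_mul _ _ _).trans ?_
    congr 1
    · have := congrArg (fun k => k.appTop a) (MorphismProperty.Over.w ((bcAff f).map u))
      exact this
    · have h : ((bcAff f).map u).left ≫ pullback.fst Y.hom f = pullback.fst Z.hom f ≫ u.left :=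
        pullback.lift_fst _ _ _
      have := congrArg (fun k => k.appTop m) h
      exact this
  | add a b ha hb => simp only [map_add, ha, hb]

theorem IsEqCofork.map {Z Y C : Aff S} {u v : Z ⟶ Y} {π : Y ⟶ C} (hπ : IsEqCofork u v π)
    (w : u ≫ π = v ≫ π)
    (hc : letI := algBase f; Function.Bijective (comp (algHom u) (algHom v) Γ(S', ⊤))) :
    IsEqCofork ((bcAff f).map u) ((bcAff f).map v) ((bcAff f).map π) := by
  letI := algBase f
  let πE : Γ(C.left, ⊤) →ₐ[Γ(S, ⊤)] AlgHom.equalizer (algHom u) (algHom v) :=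
    (algHom π).codRestrict _ fun x ↦ cofork_app_eq π w x
  have hE : Function.Bijective πE := by
    refine ⟨fun a b h ↦ hπ.inj (congrArg Subtype.val h), fun s ↦ ?_⟩
    obtain ⟨c, hc⟩ := hπ.range s.1 s.2
    exact ⟨c, Subtype.ext hc⟩
  let eE := AlgEquiv.ofBijective πE hE
  have hfac : ∀ z, bc Γ(S', ⊤) (algHom π) z =
      (comp (algHom u) (algHom v) Γ(S', ⊤) (Algebra.TensorProduct.congr (AlgEquiv.refl : Γ(S', ⊤) ≃ₐ[Γ(S', ⊤)] Γ(S', ⊤)) eE z)).1 := by
    intro z
    rw [comp_val]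
    induction z using TensorProduct.induction_on with
    | zero => simp
    | tmul a m => rfl
    | add a b ha hb => simp only [map_add, ha, hb]
  refine ⟨?_, fun s hs ↦ ?_⟩
  · intro a b h
    obtain ⟨a, rfl⟩ := (bcMap_bijective f C).2 a
    obtain ⟨b, rfl⟩ := (bcMap_bijective f C).2 b
    rw [bcMap_natural, bcMap_natural] at h
    have h1 := (bcMap_bijective f Y).1 h
    rw [hfac, hfac] at h1
    exact congrArg _ ((AlgEquiv.injective _) (hc.1 (Subtype.ext h1)))
  · obtain ⟨z, rfl⟩ := (bcMap_bijective f Y).2 s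
    rw [bcMap_natural, bcMap_natural] at hs
    obtain ⟨w', hw'⟩ := hc.2 ⟨z, (bcMap_bijective f Z).1 hs⟩
    obtain ⟨c, rfl⟩ := (AlgEquiv.surjective
      (Algebra.TensorProduct.congr (AlgEquiv.refl : Γ(S', ⊤) ≃ₐ[Γ(S', ⊤)] Γ(S', ⊤)) eE)) w'
    refine ⟨bcMap f C c, ?_⟩
    rw [bcMap_natural, hfac, hw']

theorem preservesColimit_pair {Z Y : Aff S} (u v : Z ⟶ Y)
    (hc : letI := algBase f; Function.Bijective (comp (algHom u) (algHom v) Γ(S', ⊤))) :
    PreservesColimit (parallelPair u v) (bcAff f) :=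
  preservesColimit_of_preserves_colimit_cocone
    ((isEqCofork_coeqπ u v).isColimit (coeqπ_condition u v))
    ((isColimitMapCoconeCoforkEquiv _ (coeqπ_condition u v)).symm
      (IsEqCofork.isColimit ((isEqCofork_coeqπ u v).map f (coeqπ_condition u v) hc) _))

instance preservesColimits_bcAff [Flat f] :
    PreservesColimitsOfShape WalkingParallelPair (bcAff f) := by
  refine ⟨fun {K} ↦ ?_⟩
  letI := algBase f
  haveI : Module.Flat Γ(S, ⊤) Γ(S', ⊤) :=
    (HasRingHomProperty.iff_of_isAffine (P := @Flat)).1 inferInstance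
  have := preservesColimit_pair f (K.map WalkingParallelPairHom.left)
    (K.map WalkingParallelPairHom.right) (comp_bijective_of_flat _ _ _)
  exact preservesColimit_of_iso_diagram _ (diagramIsoParallelPair K).symm

end BaseChange

end Groth.Agent.FEtGal
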