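import Mathlib
import Groth.Prelude.Def_FEt
import Groth.Agent.FEtGal.AffineCoeq

/-!
# Coequalizers of finite étale covers and their base change
-/

set_option autoImplicit false
set_option linter.style.haveILetI false
set_option backward.isDefEq.respectTransparency false

universe u

open CategoryTheory CategoryTheory.Limits AlgebraicGeometry TensorProduct

noncomputable section

namespace Groth.Agent.FEtGal

variable {X : Scheme.{u}}

instance isAffine_directedCover (X : Scheme.{u})
    (U : (Scheme.AffineZariskiSite.directedCover X).I₀) :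
    IsAffine ((Scheme.AffineZariskiSite.directedCover X).X U) := U.2

theorem preservesColimits_trans (X : Scheme.{u})
    {i j : (Scheme.AffineZariskiSite.directedCover X).I₀} (hij : i ⟶ j) :
    PreservesColimitsOfShape WalkingParallelPair
      (MorphismProperty.Over.pullback affProp.{u} ⊤
        ((Scheme.AffineZariskiSite.directedCover X).trans hij)) :=
  preservesColimits_bcAff ((Scheme.AffineZariskiSite.directedCover X).trans hij)

theorem affine_trans (X : Scheme.{u})
    {i j : (Scheme.AffineZariskiSite.directedCover X).I₀} (hij : i ⟶ j) :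
    affProp.{u} ((Scheme.AffineZariskiSite.directedCover X).trans hij) :=
  isAffineHom_of_isAffine _

/-- The local data for gluing a coequalizer. -/
def gluingData (K : WalkingParallelPair ⥤ Aff X) :
    Scheme.Cover.ColimitGluingData K (Scheme.AffineZariskiSite.directedCover X) where
  cocone i := colimit.cocone _
  isColimit i := colimit.isColimit _
  prop_trans := affine_trans X

instance hasCoequalizers_affOver : HasCoequalizers (Aff X) :=
  ⟨fun K => by
    haveI := fun {i j} => @preservesColimits_trans X i j
    exact ⟨⟨⟨_, (gluingData K).isColimitGluedCocone⟩⟩⟩⟩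

instance preservesColimit_directedCover (K : WalkingParallelPair ⥤ Aff X)
    (i : (Scheme.AffineZariskiSite.directedCover X).I₀) :
    PreservesColimit K (MorphismProperty.Over.pullback affProp.{u} ⊤
      ((Scheme.AffineZariskiSite.directedCover X).f i)) := by
  haveI := fun {i j} => @preservesColimits_trans X i j
  let d := gluingData K
  refine preservesColimit_of_preserves_colimit_cocone d.isColimitGluedCocone ?_
  refine IsColimit.ofIsoColimit (d.isColimit i) (Cocone.ext (d.pullbackGluedIso i).symm fun a => ?_)
  refine MorphismProperty.Over.Hom.ext (pullback.hom_ext ?_ ?_)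
  · rw [MorphismProperty.Comma.comp_left, Category.assoc, Iso.symm_hom]
    refine (congrArg (((d.cocone i).ι.app a).left ≫ ·) (d.pullbackGluedIso_inv_fst i)).trans ?_
    exact ((pullback.lift_fst _ _ _).trans (d.fst_gluedCocone_ι a i)).symm
  · rw [MorphismProperty.Comma.comp_left, Category.assoc, Iso.symm_hom]
    refine (congrArg (((d.cocone i).ι.app a).left ≫ ·) (d.pullbackGluedIso_inv_snd i)).trans ?_
    exact (MorphismProperty.Over.w ((d.cocone i).ι.app a)).trans (pullback.lift_snd _ _ _).symm

instance preservesColimit_affineOpen (K : WalkingParallelPair ⥤ Aff X) (U : X.affineOpens) :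
    PreservesColimit K (MorphismProperty.Over.pullback affProp.{u} ⊤ U.1.ι) :=
  preservesColimit_directedCover K U

theorem prop_le : FEt.prop.{u} ≤ affProp.{u} := fun _ _ f hf => by
  haveI : IsFinite f := hf.1
  infer_instance

/-- Finite étale covers as affine schemes over the base. -/
def incl (X : Scheme.{u}) : FEt.Cat X ⥤ Aff X :=
  MorphismProperty.Comma.changeProp (Functor.id Scheme.{u}) (Functor.fromPUnit.{0} X) prop_le le_rfl le_rfl

/-- The inclusion is fully faithful. -/
def inclFF (X : Scheme.{u}) : (incl X).FullyFaithful :=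
  MorphismProperty.Comma.fullyFaithfulChangeProp _ _ prop_le

instance : (incl X).Full := (inclFF X).full
instance : (incl X).Faithful := (inclFF X).faithful

instance : FEt.prop.{u}.HasOfPostcompProperty FEt.prop.{u} :=
  ⟨fun {_ _ _} f g hg hfg => by
    haveI : IsFinite g := hg.1
    haveI : Etale g := hg.2
    haveI : IsFinite (f ≫ g) := hfg.1
    haveI : Etale (f ≫ g) := hfg.2
    exact ⟨IsFinite.of_comp f g, Etale.of_comp f g⟩⟩

instance : IsZariskiLocalAtTarget FEt.prop.{u} := inferInstance

section Affine

variable {S : Scheme.{u}} [IsAffine S]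

attribute [local instance] algOf

theorem finite_etale_of_prop (Y : Aff S) (hY : FEt.prop Y.hom) :
    Module.Finite Γ(S, ⊤) Γ(Y.left, ⊤) ∧ Algebra.Etale Γ(S, ⊤) Γ(Y.left, ⊤) := by
  let g : Y.left ⟶ S := Y.hom
  haveI : IsFinite g := hY.1
  haveI : Etale g := hY.2
  haveI : IsAffine Y.left := isAffine_of_isAffineHom g
  exact ⟨((HasAffineProperty.iff_of_isAffine (P := @IsFinite) (f := g)).1 inferInstance).2,
    RingHom.etale_algebraMap.1
      ((HasRingHomProperty.iff_of_isAffine (P := @Etale) (f := g)).1 inferInstance)⟩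

theorem prop_coeqObj {Z Y : Aff S} (hZ : FEt.prop Z.hom) (hY : FEt.prop Y.hom) (u v : Z ⟶ Y) :
    FEt.prop (coeqObj u v).hom := by
  obtain ⟨_, _⟩ := finite_etale_of_prop Z hZ
  obtain ⟨_, _⟩ := finite_etale_of_prop Y hY
  have hf := finite_equalizer (algHom u) (algHom v)
  have he := etale_equalizer (algHom u) (algHom v)
  refine (FEt.prop.{u}.cancel_right_of_respectsIso _ _).2 ⟨?_, ?_⟩
  · rw [IsFinite.SpecMap_iff]
    exact RingHom.finite_algebraMap.2 hf
  · exact (HasRingHomProperty.Spec_iff (P := @Etale)).2 (RingHom.etale_algebraMap.2 he)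

theorem prop_colimit_pt_affine (K : WalkingParallelPair ⥤ Aff S)
    (hK : ∀ a, FEt.prop (K.obj a).hom) (c : Cocone K) (hc : IsColimit c) : FEt.prop c.pt.hom := by
  let u := K.map WalkingParallelPairHom.left
  let v := K.map WalkingParallelPairHom.right
  let e : c.pt ≅ coeqObj u v :=
    IsColimit.coconePointsIsoOfNatIso hc ((isEqCofork_coeqπ u v).isColimit (coeqπ_condition u v))
      (diagramIsoParallelPair K)
  have h := MorphismProperty.Over.w e.hom
  haveI : IsIso e.hom.left :=
    ((MorphismProperty.Over.forget _ ⊤ S ⋙ CategoryTheory.Over.forget S).mapIso e).isIso_hom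
  rw [← h, FEt.prop.{u}.cancel_left_of_respectsIso]
  exact prop_coeqObj (hK _) (hK _) u v

theorem preservesColimit_bcAff {S' : Scheme.{u}} [IsAffine S'] (g : S' ⟶ S)
    (K : WalkingParallelPair ⥤ Aff S) (hK : ∀ a, FEt.prop (K.obj a).hom) :
    PreservesColimit K (bcAff g) := by
  letI := algBase g
  obtain ⟨_, _⟩ := finite_etale_of_prop _ (hK .zero)
  obtain ⟨_, _⟩ := finite_etale_of_prop _ (hK .one)
  have := preservesColimit_pair g (K.map WalkingParallelPairHom.left)
    (K.map WalkingParallelPairHom.right) (equalizer_bc_bijective _ _ _)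
  exact preservesColimit_of_iso_diagram _ (diagramIsoParallelPair K).symm

end Affine

theorem prop_pullback {X' : Scheme.{u}} (f : X' ⟶ X) {Y : Aff X} (h : FEt.prop Y.hom) :
    FEt.prop ((MorphismProperty.Over.pullback affProp.{u} ⊤ f).obj Y).hom :=
  MorphismProperty.pullback_snd _ _ h

theorem prop_colimit_pt (K : WalkingParallelPair ⥤ Aff X) (hK : ∀ a, FEt.prop (K.obj a).hom)
    (c : Cocone K) (hc : IsColimit c) : FEt.prop c.pt.hom := by
  refine (IsZariskiLocalAtTarget.iff_of_openCover (P := FEt.prop.{u})
    (Scheme.AffineZariskiSite.directedCover X)).2 fun i => ?_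
  exact prop_colimit_pt_affine _ (fun a => prop_pullback _ (hK a)) _
    (isColimitOfPreserves (MorphismProperty.Over.pullback affProp.{u} ⊤
      ((Scheme.AffineZariskiSite.directedCover X).f i)) hc)

instance hasCoequalizers_fet : HasCoequalizers (FEt.Cat X) :=
  ⟨fun K => by
    have hpt := prop_colimit_pt (K ⋙ incl X) (fun a => (K.obj a).prop) _ (colimit.isColimit _)
    let Y : FEt.Cat X := MorphismProperty.Over.mk ⊤ (colimit (K ⋙ incl X)).hom hpt
    haveI : CreatesColimit K (incl X) :=
      createsColimitOfFullyFaithfulOfIso Y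
        (MorphismProperty.Over.isoMk (Iso.refl _) (Category.id_comp _))
    exact hasColimit_of_created K (incl X)⟩

instance preservesCoequalizers_incl : PreservesColimitsOfShape WalkingParallelPair (incl X) :=
  ⟨fun {K} => by
    have hpt := prop_colimit_pt (K ⋙ incl X) (fun a => (K.obj a).prop) _ (colimit.isColimit _)
    let Y : FEt.Cat X := MorphismProperty.Over.mk ⊤ (colimit (K ⋙ incl X)).hom hpt
    haveI : CreatesColimit K (incl X) :=
      createsColimitOfFullyFaithfulOfIso Y
        (MorphismProperty.Over.isoMk (Iso.refl _) (Category.id_comp _))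
    infer_instance⟩

section Pullback

theorem isIso_of_forall_pullback {X' : Scheme.{u}} {A B : Aff X'} (φ : A ⟶ B)
    {ι : Type*} (U : ι → X'.Opens) (hU : ⨆ i, U i = ⊤)
    (h : ∀ i, IsIso ((MorphismProperty.Over.pullback affProp.{u} ⊤ (U i).ι).map φ)) : IsIso φ := by
  suffices hl : IsIso φ.left by
    haveI : IsIso φ.left := hl
    exact ⟨(MorphismProperty.Over.isoMk (asIso φ.left) (MorphismProperty.Over.w φ)).inv,
      MorphismProperty.Over.Hom.ext (IsIso.hom_inv_id φ.left),
      MorphismProperty.Over.Hom.ext (IsIso.inv_hom_id φ.left)⟩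
  change (MorphismProperty.isomorphisms Scheme.{u}) φ.left
  rw [IsZariskiLocalAtTarget.iff_of_openCover (P := MorphismProperty.isomorphisms Scheme.{u})
    ((X'.openCoverOfIsOpenCover U hU).pullback₁ B.hom)]
  intro i
  haveI := h i
  let F := MorphismProperty.Over.pullback affProp.{u} ⊤ (U i).ι
  haveI : IsIso (F.map φ).left :=
    ((MorphismProperty.Over.forget _ ⊤ (U i : Scheme.{u}) ⋙ CategoryTheory.Over.forget _).mapIso
      (asIso (F.map φ))).isIso_hom
  have sq : IsPullback (F.map φ).left (pullback.fst A.hom (U i).ι) (pullback.fst B.hom (U i).ι)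
      φ.left := by
    refine IsPullback.of_right ?_ ?_ (IsPullback.of_hasPullback B.hom (U i).ι).flip
    · have e : (F.map φ).left ≫ pullback.snd B.hom (U i).ι = pullback.snd A.hom (U i).ι :=
        MorphismProperty.Over.w (F.map φ)
      rw [e, MorphismProperty.Over.w φ]
      exact (IsPullback.of_hasPullback A.hom (U i).ι).flip
    · exact pullback.lift_fst _ _ _
  show IsIso (pullback.snd φ.left (pullback.fst B.hom (U i).ι))
  rw [← Iso.inv_comp_eq _ |>.2 (sq.flip.isoPullback_hom_snd).symm]
  infer_instance

theorem preservesColimit_pullback_of_fet {X' : Scheme.{u}} (f : X' ⟶ X)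
    (K : WalkingParallelPair ⥤ Aff X) (hK : ∀ a, FEt.prop (K.obj a).hom) :
    PreservesColimit K (MorphismProperty.Over.pullback affProp.{u} ⊤ f) := by
  let F := MorphismProperty.Over.pullback affProp.{u} ⊤ f
  let c := colimit.cocone K
  let d := colimit.cocone (K ⋙ F)
  let φ : d.pt ⟶ F.obj c.pt := colimit.desc (K ⋙ F) (F.mapCocone c)
  let W := {W : X'.affineOpens // ∃ U : X.affineOpens, W.1 ≤ f ⁻¹ᵁ U.1}
  have hW : ⨆ W : W, W.1.1 = ⊤ := by
    refine eq_top_iff.2 fun x _ => ?_
    obtain ⟨U, hU, hxU, -⟩ := exists_isAffineOpen_mem_and_subset (U := ⊤) (x := f x) trivial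
    obtain ⟨V, hV, hxV, hVU⟩ := exists_isAffineOpen_mem_and_subset (U := f ⁻¹ᵁ U) (x := x) hxU
    exact TopologicalSpace.Opens.mem_iSup.2 ⟨⟨⟨V, hV⟩, ⟨U, hU⟩, hVU⟩, hxV⟩
  haveI : IsIso φ := by
    refine isIso_of_forall_pullback φ _ hW fun ⟨V, U, hVU⟩ => ?_
    haveI : IsAffine U.1.toScheme := U.2
    haveI : IsAffine V.1.toScheme := V.2
    let g := f.resLE U.1 V.1 hVU
    let G := MorphismProperty.Over.pullback affProp.{u} ⊤ V.1.ι
    have hg : V.1.ι ≫ f = g ≫ U.1.ι := (f.resLE_comp_ι hVU).symm
    haveI : PreservesColimit (K ⋙ MorphismProperty.Over.pullback affProp.{u} ⊤ U.1.ι) (bcAff g) :=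
      preservesColimit_bcAff g _ fun a => prop_pullback _ (hK a)
    haveI : PreservesColimit K
        (MorphismProperty.Over.pullback affProp.{u} ⊤ U.1.ι ⋙ bcAff g) := inferInstance
    haveI : PreservesColimit K (F ⋙ G) :=
      preservesColimit_of_natIso K
        ((MorphismProperty.Over.pullbackComp g U.1.ι (V.1.ι ≫ f) hg).symm ≪≫
          MorphismProperty.Over.pullbackComp V.1.ι f (V.1.ι ≫ f) rfl)
    let h1 := isColimitOfPreserves G (colimit.isColimit (K ⋙ F))
    let h2 : IsColimit (G.mapCocone (F.mapCocone c)) :=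
      isColimitOfPreserves (F ⋙ G) (colimit.isColimit K)
    have : G.map φ = (IsColimit.coconePointUniqueUpToIso h1 h2).hom := by
      refine h1.hom_ext fun a => ?_
      rw [IsColimit.comp_coconePointUniqueUpToIso_hom]
      show G.map _ ≫ G.map φ = G.map _
      rw [← G.map_comp]
      exact congrArg G.map (colimit.ι_desc (F.mapCocone c) a)
    show IsIso (G.map φ)
    rw [this]
    exact Iso.isIso_hom _
  exact preservesColimit_of_preserves_colimit_cocone (colimit.isColimit K)
    (@IsColimit.ofPointIso _ _ _ _ _ _ (F.mapCocone c) (colimit.isColimit (K ⋙ F))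
      (show IsIso φ from inferInstance))

/-- Restriction of finite étale covers is restriction of the ambient affine schemes. -/
def restrictIncl {X' : Scheme.{u}} (f : X' ⟶ X) :
    FEt.restrict f ⋙ incl X' ≅ incl X ⋙ MorphismProperty.Over.pullback affProp.{u} ⊤ f :=
  NatIso.ofComponents (fun _ => Iso.refl _) fun _ => by
    refine MorphismProperty.Over.Hom.ext ?_
    exact (Category.comp_id _).trans (Category.id_comp _).symm

instance preservesCoequalizers_restrict {X' : Scheme.{u}} (f : X' ⟶ X) :
    PreservesColimitsOfShape WalkingParallelPair (FEt.restrict f) :=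
  ⟨fun {K} => by
    haveI := preservesColimit_pullback_of_fet f (K ⋙ incl X) fun a => (K.obj a).prop
    haveI : PreservesColimit K (FEt.restrict f ⋙ incl X') :=
      preservesColimit_of_natIso K (restrictIncl f).symm
    exact preservesColimit_of_reflects_of_preserves (FEt.restrict f) (incl X')⟩

end Pullback

end Groth.Agent.FEtGal
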