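import Mathlib
import Groth.Prelude.Def_FEt
import Groth.Agent.FEtGal.Coeq

/-!
# Finite coproducts of finite étale covers; monomorphisms
-/

set_option autoImplicit false
set_option linter.style.haveILetI false
set_option backward.isDefEq.respectTransparency false

universe u

open CategoryTheory CategoryTheory.Limits AlgebraicGeometry

noncomputable section

namespace Groth.Agent.FEtGal

variable {X : Scheme.{u}}

/-- The structure map of a finite étale cover, with source `Y.left`. -/
abbrev str (Y : FEt.Cat X) : Y.left ⟶ X := Y.hom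

instance isFinite_str (Y : FEt.Cat X) : IsFinite (str Y) := Y.prop.1

instance etale_str (Y : FEt.Cat X) : Etale (str Y) := Y.prop.2

theorem prop_left {Y Z : FEt.Cat X} (a : Y ⟶ Z) : FEt.prop a.left :=
  MorphismProperty.of_postcomp FEt.prop a.left Z.hom Z.prop
    (by rw [MorphismProperty.Over.w a]; exact Y.prop)

theorem hom_ext_left {Y Z : FEt.Cat X} {a b : Y ⟶ Z} (h : a.left = b.left) : a = b :=
  MorphismProperty.Over.Hom.ext h

/-- A morphism of covers which is an isomorphism of schemes is an isomorphism. -/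
theorem isIso_of_isIso_left {Y Z : FEt.Cat X} (a : Y ⟶ Z) (h : IsIso a.left) : IsIso a :=
  ⟨(MorphismProperty.Over.isoMk (asIso a.left) (MorphismProperty.Over.w a)).inv,
    hom_ext_left (IsIso.hom_inv_id a.left), hom_ext_left (IsIso.inv_hom_id a.left)⟩

theorem isIso_left {Y Z : FEt.Cat X} (a : Y ⟶ Z) [IsIso a] : IsIso a.left :=
  ((MorphismProperty.Over.forget _ ⊤ X ⋙ CategoryTheory.Over.forget X).mapIso (asIso a)).isIso_hom

/-! ## Binary coproducts -/

/-- A criterion for a cofan of finite étale covers to be a colimit. -/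
theorem nonempty_isColimit_of_isCompl {Y₁ Y₂ Z : FEt.Cat X} (a : Y₁ ⟶ Z) (b : Y₂ ⟶ Z)
    [IsOpenImmersion a.left] [IsOpenImmersion b.left]
    (h : IsCompl (Set.range a.left) (Set.range b.left)) :
    Nonempty (IsColimit (BinaryCofan.mk a b)) := by
  have h' : IsCompl a.left.opensRange b.left.opensRange := by
    refine ⟨disjoint_iff.2 ?_, codisjoint_iff.2 ?_⟩
    · exact TopologicalSpace.Opens.ext (disjoint_iff.1 h.1)
    · exact TopologicalSpace.Opens.ext (codisjoint_iff.1 h.2)
  obtain ⟨hc⟩ := nonempty_isColimit_binaryCofanMk_of_isCompl a.left b.left h'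
  refine ⟨BinaryCofan.IsColimit.mk _
    (fun {T} f g => MorphismProperty.Over.homMk (hc.desc (BinaryCofan.mk f.left g.left)) ?_)
    (fun {T} f g => hom_ext_left (hc.fac (BinaryCofan.mk f.left g.left) ⟨.left⟩))
    (fun {T} f g => hom_ext_left (hc.fac (BinaryCofan.mk f.left g.left) ⟨.right⟩))
    (fun {T} f g m h₁ h₂ => hom_ext_left ?_)⟩
  · refine BinaryCofan.IsColimit.hom_ext hc ?_ ?_
    · exact ((reassoc_of% (hc.fac (BinaryCofan.mk f.left g.left) ⟨.left⟩)) _).trans
        ((MorphismProperty.Over.w f).trans (MorphismProperty.Over.w a).symm)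
    · exact ((reassoc_of% (hc.fac (BinaryCofan.mk f.left g.left) ⟨.right⟩)) _).trans
        ((MorphismProperty.Over.w g).trans (MorphismProperty.Over.w b).symm)
  · refine BinaryCofan.IsColimit.hom_ext hc ?_ ?_
    · exact (congrArg (fun k => k.left) h₁).trans
        (hc.fac (BinaryCofan.mk f.left g.left) ⟨.left⟩).symm
    · exact (congrArg (fun k => k.left) h₂).trans
        (hc.fac (BinaryCofan.mk f.left g.left) ⟨.right⟩).symm

theorem prop_coprodDesc (Y₁ Y₂ : FEt.Cat X) : FEt.prop (coprod.desc (str Y₁) (str Y₂)) := by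
  refine ⟨inferInstance, ?_⟩
  show Etale (coprod.desc (str Y₁) (str Y₂))
  haveI := HasRingHomProperty.instIsZariskiLocalAtSource (P := @Etale) (Q := RingHom.Etale)
  rw [IsZariskiLocalAtSource.iff_of_openCover (P := @Etale)
    (coprodOpenCover.{u, 0} Y₁.left Y₂.left)]
  rintro (_ | _)
  · show Etale (coprod.inl ≫ coprod.desc (str Y₁) (str Y₂))
    rw [coprod.inl_desc]
    infer_instance
  · show Etale (coprod.inr ≫ coprod.desc (str Y₁) (str Y₂))
    rw [coprod.inr_desc]
    infer_instance

/-- The disjoint union of two covers. -/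
def coprodObj (Y₁ Y₂ : FEt.Cat X) : FEt.Cat X :=
  MorphismProperty.Over.mk ⊤ (coprod.desc (str Y₁) (str Y₂)) (prop_coprodDesc Y₁ Y₂)

/-- The left inclusion into the disjoint union. -/
def inlHom (Y₁ Y₂ : FEt.Cat X) : Y₁ ⟶ coprodObj Y₁ Y₂ :=
  MorphismProperty.Over.homMk coprod.inl (coprod.inl_desc (str Y₁) (str Y₂))

/-- The right inclusion into the disjoint union. -/
def inrHom (Y₁ Y₂ : FEt.Cat X) : Y₂ ⟶ coprodObj Y₁ Y₂ :=
  MorphismProperty.Over.homMk coprod.inr (coprod.inr_desc (str Y₁) (str Y₂))

instance (Y₁ Y₂ : FEt.Cat X) : IsOpenImmersion (inlHom Y₁ Y₂).left :=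
  inferInstanceAs (IsOpenImmersion (coprod.inl : Y₁.left ⟶ Y₁.left ⨿ Y₂.left))

instance (Y₁ Y₂ : FEt.Cat X) : IsOpenImmersion (inrHom Y₁ Y₂).left :=
  inferInstanceAs (IsOpenImmersion (coprod.inr : Y₂.left ⟶ Y₁.left ⨿ Y₂.left))

theorem isCompl_inlHom (Y₁ Y₂ : FEt.Cat X) :
    IsCompl (Set.range (inlHom Y₁ Y₂).left) (Set.range (inrHom Y₁ Y₂).left) :=
  isCompl_range_inl_inr Y₁.left Y₂.left

/-- The disjoint union is a coproduct. -/
def isColimitCoprodObj (Y₁ Y₂ : FEt.Cat X) :
    IsColimit (BinaryCofan.mk (inlHom Y₁ Y₂) (inrHom Y₁ Y₂)) :=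
  (nonempty_isColimit_of_isCompl _ _ (isCompl_inlHom Y₁ Y₂)).some

instance hasBinaryCoproducts_fet : HasBinaryCoproducts (FEt.Cat X) :=
  haveI : ∀ {Y₁ Y₂ : FEt.Cat X}, HasColimit (pair Y₁ Y₂) := fun {Y₁ Y₂} =>
    ⟨⟨⟨_, isColimitCoprodObj Y₁ Y₂⟩⟩⟩
  hasBinaryCoproducts_of_hasColimit_pair _

/-! ## The initial object -/

theorem isEmpty_emptyScheme : IsEmpty (∅ : Scheme.{u}) := inferInstance

theorem prop_emptyTo (X : Scheme.{u}) : FEt.prop (Scheme.emptyTo X) := by
  haveI : IsClosedImmersion (Scheme.emptyTo X) := by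
    refine IsClosedImmersion.of_isPreimmersion _ ?_
    rw [Set.range_eq_empty]
    exact isClosed_empty
  exact ⟨inferInstance, inferInstance⟩

/-- The empty cover. -/
def emptyObj (X : Scheme.{u}) : FEt.Cat X :=
  MorphismProperty.Over.mk ⊤ (Scheme.emptyTo X) (prop_emptyTo X)

/-- A cover with empty total space is initial. -/
def isInitialCover (Y : FEt.Cat X) (h : IsEmpty Y.left) : IsInitial Y :=
  haveI := h
  IsInitial.ofUniqueHom
    (fun T => MorphismProperty.Over.homMk ((AlgebraicGeometry.isInitialOfIsEmpty (X := Y.left)).to T.left)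
      ((AlgebraicGeometry.isInitialOfIsEmpty (X := Y.left)).hom_ext _ _))
    (fun T m => hom_ext_left ((AlgebraicGeometry.isInitialOfIsEmpty (X := Y.left)).hom_ext _ _))

instance hasInitial_fet : HasInitial (FEt.Cat X) :=
  (isInitialCover (emptyObj X) isEmpty_emptyScheme).hasInitial

theorem isEmpty_of_isInitial {Y : FEt.Cat X} (h : IsInitial Y) : IsEmpty Y.left :=
  (h.to (emptyObj X)).left.base.hom.toFun |> fun f => ⟨fun y => isEmpty_emptyScheme.false (f y)⟩

instance hasFiniteCoproducts_fet : HasFiniteCoproducts (FEt.Cat X) :=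
  hasFiniteCoproducts_of_has_binary_and_initial

/-! ## Base change -/

section BaseChange

variable {X' : Scheme.{u}} (f : X' ⟶ X)

theorem isPullback_restrict_map {Y Z : FEt.Cat X} (a : Y ⟶ Z) :
    IsPullback ((FEt.restrict f).map a).left (pullback.fst (str Y) f) (pullback.fst (str Z) f)
      a.left := by
  refine IsPullback.of_right ?_ ?_ (IsPullback.of_hasPullback (str Z) f).flip
  · have e : ((FEt.restrict f).map a).left ≫ pullback.snd (str Z) f = pullback.snd (str Y) f :=
      MorphismProperty.Over.w ((FEt.restrict f).map a)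
    rw [e, show a.left ≫ str Z = str Y from MorphismProperty.Over.w a]
    exact (IsPullback.of_hasPullback (str Y) f).flip
  · exact pullback.lift_fst _ _ _

instance isOpenImmersion_restrict_map {Y Z : FEt.Cat X} (a : Y ⟶ Z) [IsOpenImmersion a.left] :
    IsOpenImmersion ((FEt.restrict f).map a).left :=
  MorphismProperty.of_isPullback (P := @IsOpenImmersion) (isPullback_restrict_map f a).flip
    inferInstance

theorem range_restrict_map {Y Z : FEt.Cat X} (a : Y ⟶ Z) :
    Set.range ((FEt.restrict f).map a).left = pullback.fst (str Z) f ⁻¹' Set.range a.left := by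
  have sq := (isPullback_restrict_map f a).flip
  rw [← sq.isoPullback_hom_snd, ← AlgebraicGeometry.Scheme.Pullback.range_snd,
    Scheme.Hom.comp_base, TopCat.coe_comp, Set.range_comp,
    Set.range_eq_univ.2 (show Function.Surjective sq.isoPullback.hom from
      sq.isoPullback.hom.homeomorph.surjective), Set.image_univ]
  rfl

theorem isColimit_restrict_coprodObj (Y₁ Y₂ : FEt.Cat X) :
    Nonempty (IsColimit (BinaryCofan.mk ((FEt.restrict f).map (inlHom Y₁ Y₂))
      ((FEt.restrict f).map (inrHom Y₁ Y₂)))) := by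
  refine nonempty_isColimit_of_isCompl _ _ ?_
  rw [range_restrict_map, range_restrict_map]
  exact (isCompl_inlHom Y₁ Y₂).map (CompleteLatticeHom.setPreimage _)

instance preservesBinaryCoproducts_restrict :
    PreservesColimitsOfShape (Discrete WalkingPair) (FEt.restrict f) :=
  ⟨fun {K} => by
    haveI : PreservesColimit (pair (K.obj ⟨.left⟩) (K.obj ⟨.right⟩)) (FEt.restrict f) :=
      preservesColimit_of_preserves_colimit_cocone (isColimitCoprodObj _ _)
        ((isColimitMapCoconeBinaryCofanEquiv _ _ _).symm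
          (isColimit_restrict_coprodObj f _ _).some)
    exact preservesColimit_of_iso_diagram _ (diagramIsoPair K).symm⟩

theorem isEmpty_restrict (Y : FEt.Cat X) (h : IsEmpty Y.left) :
    IsEmpty ((FEt.restrict f).obj Y).left :=
  ⟨fun y => h.false (pullback.fst (str Y) f y)⟩

instance preservesInitial_restrict :
    PreservesColimitsOfShape (Discrete PEmpty.{1}) (FEt.restrict f) := by
  haveI : PreservesColimit (Functor.empty.{0} (FEt.Cat X)) (FEt.restrict f) := by
    refine preservesColimit_of_preserves_colimit_cocone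
      (isInitialCover (emptyObj X) isEmpty_emptyScheme) ?_
    exact (isColimitMapCoconeEmptyCoconeEquiv (FEt.restrict f) _).symm
      (isInitialCover _ (isEmpty_restrict f _ isEmpty_emptyScheme))
  exact preservesColimitsOfShape_pempty_of_preservesInitial _

instance preservesFiniteCoproducts_restrict : PreservesFiniteCoproducts (FEt.restrict f) :=
  ⟨fun n => preservesShape_fin_of_preserves_binary_and_initial _ n⟩

end BaseChange

/-! ## Finite colimits -/

instance hasFiniteColimits_fet : HasFiniteColimits (FEt.Cat X) :=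
  hasFiniteColimits_of_hasCoequalizers_and_finite_coproducts

instance preservesFiniteColimits_restrict {X' : Scheme.{u}} (f : X' ⟶ X) :
    PreservesFiniteColimits (FEt.restrict f) :=
  preservesFiniteColimits_of_preservesCoequalizers_and_finiteCoproducts _

/-! ## Monomorphisms -/

/-- Monomorphisms of covers are open and closed immersions with a complementary cover. -/
theorem mono_complement {Y Z : FEt.Cat X} (i : Y ⟶ Z) [Mono i] :
    IsOpenImmersion i.left ∧ ∃ (W : FEt.Cat X) (u : W ⟶ Z), IsOpenImmersion u.left ∧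
      IsCompl (Set.range i.left) (Set.range u.left) := by
  haveI : IsFinite i.left := (prop_left i).1
  haveI : Etale i.left := (prop_left i).2
  haveI : Mono i.left :=
    (MorphismProperty.Over.forget _ ⊤ X ⋙ CategoryTheory.Over.forget X).map_mono i
  haveI : IsOpenImmersion i.left := IsOpenImmersion.of_flat_of_mono i.left
  let W : Z.left.Opens := ⟨(Set.range i.left)ᶜ, i.left.isClosedMap.isClosed_range.isOpen_compl⟩
  haveI : IsClosedImmersion W.ι := by
    refine IsClosedImmersion.of_isPreimmersion _ ?_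
    rw [Scheme.Opens.range_ι]
    exact i.left.isOpenEmbedding.isOpen_range.isClosed_compl
  have hW : FEt.prop (W.ι ≫ str Z) :=
    FEt.prop.{u}.comp_mem _ _ ⟨inferInstance, inferInstance⟩ Z.prop
  let W' : FEt.Cat X := MorphismProperty.Over.mk ⊤ (W.ι ≫ str Z) hW
  let u : W' ⟶ Z := MorphismProperty.Over.homMk W.ι rfl
  haveI : IsOpenImmersion u.left := inferInstanceAs (IsOpenImmersion W.ι)
  refine ⟨inferInstance, W', u, inferInstance, ?_⟩
  show IsCompl _ (Set.range W.ι)
  rw [Scheme.Opens.range_ι]
  exact isCompl_compl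

theorem mono_direct_summand {Y Z : FEt.Cat X} (i : Y ⟶ Z) [Mono i] :
    ∃ (W : FEt.Cat X) (u : W ⟶ Z), Nonempty (IsColimit (BinaryCofan.mk i u)) := by
  obtain ⟨_, W, u, _, h⟩ := mono_complement i
  exact ⟨W, u, nonempty_isColimit_of_isCompl i u h⟩

end Groth.Agent.FEtGal
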