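import Mathlib
import Groth.Prelude.Def_FEt
import Groth.Agent.FEtGal.Coprod
import Groth.Agent.S0294

/-!
# Geometric fibres of finite étale covers
-/

set_option autoImplicit false
set_option linter.style.haveILetI false
set_option backward.isDefEq.respectTransparency false

universe u

open CategoryTheory CategoryTheory.Limits AlgebraicGeometry

noncomputable section

namespace Groth.Agent.FEtGal

variable {X : Scheme.{u}} {Ω : Type u} [Field Ω] (ξ : Spec (CommRingCat.of Ω) ⟶ X)

/-- The unique point of `Spec Ω`. -/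
abbrev pt₀ (Ω : Type u) [Field Ω] : Spec (CommRingCat.of Ω) := IsLocalRing.closedPoint Ω

theorem range_point {Z : Scheme.{u}} (s : Spec (CommRingCat.of Ω) ⟶ Z) :
    Set.range s = {s (pt₀ Ω)} :=
  Set.eq_singleton_iff_unique_mem.2 ⟨⟨_, rfl⟩, by
    rintro _ ⟨y, rfl⟩
    exact congrArg s (Subsingleton.elim (α := PrimeSpectrum Ω) y (pt₀ Ω))⟩

/-- The map on fibres. -/
abbrev fmap {Y Z : FEt.Cat X} (a : Y ⟶ Z) : FEt.fiberObj ξ Y → FEt.fiberObj ξ Z :=
  (FEt.fiber ξ).map a

theorem fmap_val {Y Z : FEt.Cat X} (a : Y ⟶ Z) (s : FEt.fiberObj ξ Y) :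
    (fmap ξ a s).1 = s.1 ≫ a.left := rfl

theorem point_mem_range {Y Z : FEt.Cat X} (a : Y ⟶ Z) (s : FEt.fiberObj ξ Y) :
    (fmap ξ a s).1 (pt₀ Ω) ∈ Set.range a.left :=
  ⟨s.1 (pt₀ Ω), by rw [fmap_val, Scheme.Hom.comp_apply]⟩

theorem exists_fmap_eq_iff {Y Z : FEt.Cat X} (a : Y ⟶ Z) [IsOpenImmersion a.left]
    (t : FEt.fiberObj ξ Z) : (∃ s, fmap ξ a s = t) ↔ t.1 (pt₀ Ω) ∈ Set.range a.left := by
  refine ⟨fun ⟨s, hs⟩ => hs ▸ point_mem_range ξ a s, fun h => ?_⟩
  have hr : Set.range t.1 ⊆ Set.range a.left := by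
    rw [range_point]; exact Set.singleton_subset_iff.2 h
  refine ⟨⟨IsOpenImmersion.lift a.left t.1 hr, ?_⟩,
    Subtype.ext (IsOpenImmersion.lift_fac a.left t.1 hr)⟩
  rw [← MorphismProperty.Over.w a, IsOpenImmersion.lift_fac_assoc]
  exact t.2

theorem injective_fmap {Y Z : FEt.Cat X} (a : Y ⟶ Z) [Mono a.left] :
    Function.Injective (fmap ξ a) := fun s t h =>
  Subtype.ext ((cancel_mono a.left).1 (congrArg Subtype.val h))

theorem isCompl_range_fmap {Y₁ Y₂ Z : FEt.Cat X} (a : Y₁ ⟶ Z) (b : Y₂ ⟶ Z)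
    [IsOpenImmersion a.left] [IsOpenImmersion b.left]
    (h : IsCompl (Set.range a.left) (Set.range b.left)) :
    IsCompl (Set.range (fmap ξ a)) (Set.range (fmap ξ b)) := by
  have ha : Set.range (fmap ξ a) = (fun t => t.1 (pt₀ Ω)) ⁻¹' Set.range a.left :=
    Set.ext fun t => exists_fmap_eq_iff ξ a t
  have hb : Set.range (fmap ξ b) = (fun t => t.1 (pt₀ Ω)) ⁻¹' Set.range b.left :=
    Set.ext fun t => exists_fmap_eq_iff ξ b t
  rw [ha, hb]
  exact h.map (CompleteLatticeHom.setPreimage _)

/-! ## Exactness of the fibre -/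

instance preservesBinaryCoproducts_fiber :
    PreservesColimitsOfShape (Discrete WalkingPair) (FEt.fiber ξ) :=
  ⟨fun {K} => by
    haveI : PreservesColimit (pair (K.obj ⟨.left⟩) (K.obj ⟨.right⟩)) (FEt.fiber ξ) := by
      refine preservesColimit_of_preserves_colimit_cocone (isColimitCoprodObj _ _)
        ((isColimitMapCoconeBinaryCofanEquiv _ _ _).symm ?_)
      exact ((Types.binaryCofan_isColimit_iff _).2 ⟨injective_fmap ξ _, injective_fmap ξ _,
        isCompl_range_fmap ξ _ _ (isCompl_inlHom _ _)⟩).some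
    exact preservesColimit_of_iso_diagram _ (diagramIsoPair K).symm⟩

theorem isEmpty_fiber (Y : FEt.Cat X) (h : IsEmpty Y.left) : IsEmpty (FEt.fiberObj ξ Y) :=
  ⟨fun s => h.false (s.1 (pt₀ Ω))⟩

instance preservesInitial_fiber :
    PreservesColimitsOfShape (Discrete PEmpty.{1}) (FEt.fiber ξ) := by
  haveI : PreservesColimit (Functor.empty.{0} (FEt.Cat X)) (FEt.fiber ξ) := by
    refine preservesColimit_of_preserves_colimit_cocone
      (isInitialCover (emptyObj X) isEmpty_emptyScheme) ?_
    exact (isColimitMapCoconeEmptyCoconeEquiv (FEt.fiber ξ) _).symm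
      ((Types.initial_iff_empty _).2 (isEmpty_fiber ξ _ isEmpty_emptyScheme)).some
  exact preservesColimitsOfShape_pempty_of_preservesInitial _

instance preservesFiniteCoproducts_fiber : PreservesFiniteCoproducts (FEt.fiber ξ) :=
  ⟨fun n => preservesShape_fin_of_preserves_binary_and_initial _ n⟩

/-- The fibre is corepresented by the geometric point in the category of all schemes over `X`. -/
def fiberIsoCoyoneda :
    MorphismProperty.Over.forget FEt.prop.{u} ⊤ X ⋙ coyoneda.obj (Opposite.op (Over.mk ξ)) ≅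
      FEt.fiber ξ :=
  NatIso.ofComponents
    (fun Y => Equiv.toIso
      { toFun := fun h => ⟨h.left, Over.w h⟩
        invFun := fun s => Over.homMk s.1 s.2
        left_inv := fun _ => rfl
        right_inv := fun _ => rfl })
    (fun _ => rfl)

instance preservesFiniteLimits_fiber : PreservesFiniteLimits (FEt.fiber ξ) :=
  preservesFiniteLimits_of_natIso (fiberIsoCoyoneda ξ)

/-- The fibre functor with values in finite sets. -/
def fibre : FEt.Cat X ⥤ FintypeCat.{u} :=
  ObjectProperty.lift _ (FEt.fiber ξ) fun Y => Groth.Agent.S0294.result ξ Y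

/-- The fibre functor lifts the fibre. -/
def fibreIncl : fibre ξ ⋙ FintypeCat.incl ≅ FEt.fiber ξ := Iso.refl _

instance preservesFiniteLimits_fibre : PreservesFiniteLimits (fibre ξ) := by
  haveI : PreservesFiniteLimits (fibre ξ ⋙ FintypeCat.incl) :=
    inferInstanceAs (PreservesFiniteLimits (FEt.fiber ξ))
  exact preservesFiniteLimits_of_reflects_of_preserves _ FintypeCat.incl

instance preservesFiniteCoproducts_fibre : PreservesFiniteCoproducts (fibre ξ) := by
  haveI : PreservesFiniteCoproducts (fibre ξ ⋙ FintypeCat.incl) :=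
    inferInstanceAs (PreservesFiniteCoproducts (FEt.fiber ξ))
  exact ⟨fun n => ⟨fun {K} => preservesColimit_of_reflects_of_preserves _ FintypeCat.incl⟩⟩

/-! ## Existence of points, conservativity -/

variable [IsAlgClosed Ω]

theorem exists_point_of_nonempty (Y : FEt.Cat (Spec (CommRingCat.of Ω))) [Nonempty Y.left] :
    Nonempty (FEt.fiberObj (𝟙 (Spec (CommRingCat.of Ω))) Y) := by
  haveI : IsAffine Y.left := isAffine_of_isAffineHom (str Y)
  obtain ⟨y, -, hy⟩ := IsClosed.exists_closed_singleton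
    (isClosed_univ (X := Y.left)) Set.univ_nonempty
  exact ⟨⟨_, pointOfClosedPoint_comp (str Y) y hy⟩⟩

/-- The points of the pullback to the geometric point. -/
def pointsRestrict (Y : FEt.Cat X) :
    FEt.fiberObj (𝟙 _) ((FEt.restrict ξ).obj Y) ≃ FEt.fiberObj ξ Y where
  toFun s := ⟨s.1 ≫ pullback.fst (str Y) ξ, by
    have h : s.1 ≫ pullback.snd (str Y) ξ = 𝟙 _ := s.2
    exact (Category.assoc _ _ _).trans ((congrArg (s.1 ≫ ·) pullback.condition).trans
      ((reassoc_of% h) ξ))⟩
  invFun t := ⟨pullback.lift t.1 (𝟙 _) (t.2.trans (Category.id_comp ξ).symm),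
    pullback.lift_snd _ _ _⟩
  left_inv s := Subtype.ext (pullback.hom_ext (pullback.lift_fst _ _ _)
    ((pullback.lift_snd _ _ _).trans s.2.symm))
  right_inv t := Subtype.ext (pullback.lift_fst _ _ _)

/-- The fibre functor factors through restriction to the geometric point. -/
def restrictFiberIso : FEt.restrict ξ ⋙ FEt.fiber (𝟙 _) ≅ FEt.fiber ξ :=
  NatIso.ofComponents (fun Y => (pointsRestrict ξ Y).toIso) fun {Y Z} a => by
    refine ConcreteCategory.hom_ext _ _ fun s => Subtype.ext ?_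
    show (s.1 ≫ ((FEt.restrict ξ).map a).left) ≫ pullback.fst (str Z) ξ =
      (s.1 ≫ pullback.fst (str Y) ξ) ≫ a.left
    rw [Category.assoc, Category.assoc, (isPullback_restrict_map ξ a).w]

theorem isEmpty_of_isEmpty_fiber [ConnectedSpace X] (Y : FEt.Cat X)
    (h : IsEmpty (FEt.fiberObj ξ Y)) : IsEmpty Y.left := by
  by_contra hne
  rw [not_isEmpty_iff] at hne
  have ho : IsOpen (Set.range (str Y)) := (str Y).isOpenMap.isOpen_range
  have hcl : IsClosed (Set.range (str Y)) := (str Y).isClosedMap.isClosed_range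
  have hu : Set.range (str Y) = Set.univ :=
    (isClopen_iff.1 ⟨hcl, ho⟩).resolve_left (Set.range_nonempty _).ne_empty
  have hr : Set.range (pullback.snd (str Y) ξ) = Set.univ := by
    rw [Scheme.Pullback.range_snd, hu, Set.preimage_univ]
  obtain ⟨p, -⟩ : pt₀ Ω ∈ Set.range (pullback.snd (str Y) ξ) := hr ▸ Set.mem_univ _
  haveI : Nonempty ((FEt.restrict ξ).obj Y).left := ⟨p⟩
  obtain ⟨s⟩ := exists_point_of_nonempty ((FEt.restrict ξ).obj Y)
  exact h.false (pointsRestrict ξ Y s)

theorem isIso_of_mono_of_surjective_fmap [ConnectedSpace X] {Y Z : FEt.Cat X} (i : Y ⟶ Z) [Mono i]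
    (h : Function.Surjective (fmap ξ i)) : IsIso i := by
  obtain ⟨_, W, u, _, hc⟩ := mono_complement i
  have hW : IsEmpty (FEt.fiberObj ξ W) := ⟨fun w => by
    obtain ⟨y, hy⟩ := h (fmap ξ u w)
    exact Set.disjoint_left.1 (isCompl_range_fmap ξ i u hc).disjoint ⟨y, hy⟩ ⟨w, rfl⟩⟩
  haveI := isEmpty_of_isEmpty_fiber ξ W hW
  have hu : Set.range i.left = Set.univ := by
    have := hc.sup_eq_top
    simpa [Set.range_eq_empty u.left] using this
  haveI : Surjective i.left := ⟨Set.range_eq_univ.1 hu⟩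
  exact isIso_of_isIso_left i ((isIso_iff_isOpenImmersion_and_surjective i.left).2
    ⟨inferInstance, inferInstance⟩)

theorem isIso_of_bijective_fmap [ConnectedSpace X] {Y Z : FEt.Cat X} (φ : Y ⟶ Z)
    (h : Function.Bijective (fmap ξ φ)) : IsIso φ := by
  let F := FEt.fiber ξ
  haveI : Mono (F.map φ) := (mono_iff_injective _).2 h.1
  haveI : IsIso (F.map (pullback.fst φ φ)) :=
    IsKernelPair.isIso_of_mono ((IsPullback.of_hasPullback φ φ).map F)
  have hd : pullback.diagonal φ ≫ pullback.fst φ φ = 𝟙 _ := pullback.diagonal_fst φ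
  haveI : IsIso (F.map (pullback.diagonal φ) ≫ F.map (pullback.fst φ φ)) := by
    rw [← F.map_comp, hd]; infer_instance
  haveI : IsIso (F.map (pullback.diagonal φ)) :=
    IsIso.of_isIso_comp_right _ (F.map (pullback.fst φ φ))
  haveI : IsIso (pullback.diagonal φ) :=
    isIso_of_mono_of_surjective_fmap ξ _ ((isIso_iff_bijective _).1 inferInstance).2
  haveI : Mono φ := by
    constructor
    intro T a b hab
    have e : pullback.fst φ φ = pullback.snd φ φ := by
      rw [← cancel_epi (pullback.diagonal φ), pullback.diagonal_fst, pullback.diagonal_snd]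
    rw [← pullback.lift_fst a b hab, e, pullback.lift_snd]
  exact isIso_of_mono_of_surjective_fmap ξ φ h.2

theorem reflectsIsomorphisms_fibre [ConnectedSpace X] : (fibre ξ).ReflectsIsomorphisms where
  reflects {Y Z} φ h := isIso_of_bijective_fmap ξ φ ((isIso_iff_bijective _).1
    (inferInstanceAs (IsIso (FintypeCat.incl.map ((fibre ξ).map φ)))))

end Groth.Agent.FEtGal
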