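import Mathlib
import Groth.Prelude.Def_FEt
import Groth.Agent.FEtGal.Points

/-!
# The fibre functor of finite étale covers of a connected scheme
-/

set_option autoImplicit false
set_option linter.style.haveILetI false
set_option backward.isDefEq.respectTransparency false

universe u

open CategoryTheory CategoryTheory.Limits AlgebraicGeometry

noncomputable section

namespace Groth.Agent.FEtGal

section Point

variable (Ω : Type u) [Field Ω]

/-- The identity geometric point. -/
abbrev idPt : Spec (CommRingCat.of Ω) ⟶ Spec (CommRingCat.of Ω) := 𝟙 _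

/-- The trivial cover of the point. -/
def onePt : FEt.Cat (Spec (CommRingCat.of Ω)) :=
  MorphismProperty.Over.mk ⊤ (idPt Ω) (FEt.prop.{u}.id_mem _)

variable {Ω}

instance (Y : FEt.Cat (Spec (CommRingCat.of Ω))) : Finite (FEt.fiberObj (idPt Ω) Y) :=
  Groth.Agent.S0294.result _ Y

instance : ConnectedSpace (Spec (CommRingCat.of Ω)) :=
  haveI : IrreducibleSpace (Spec (CommRingCat.of Ω)) :=
    inferInstanceAs (IrreducibleSpace (PrimeSpectrum Ω))
  inferInstance

/-- Points of a cover of the point are maps from the trivial cover. -/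
def homEquivPoints (Y : FEt.Cat (Spec (CommRingCat.of Ω))) :
    (onePt Ω ⟶ Y) ≃ FEt.fiberObj (idPt Ω) Y where
  toFun h := ⟨h.left, MorphismProperty.Over.w h⟩
  invFun s := MorphismProperty.Over.homMk s.1 s.2
  left_inv _ := rfl
  right_inv _ := rfl

theorem subsingleton_points_onePt : Subsingleton (FEt.fiberObj (idPt Ω) (onePt Ω)) :=
  ⟨fun s t => Subtype.ext (((Category.comp_id s.1).symm.trans s.2).trans
    ((Category.comp_id t.1).symm.trans t.2).symm)⟩

theorem fmap_homEquivPoints {Y Z : FEt.Cat (Spec (CommRingCat.of Ω))} (h : onePt Ω ⟶ Y)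
    (g : Y ⟶ Z) : fmap (idPt Ω) g (homEquivPoints Y h) = homEquivPoints Z (h ≫ g) := rfl

/-- The trivial cover with sheets indexed by a finite type. -/
def pow (J : Type u) [Finite J] : FEt.Cat (Spec (CommRingCat.of Ω)) :=
  ∐ fun _ : J => onePt Ω

theorem bijective_points_pow (J : Type u) [Finite J] :
    Function.Bijective fun j : J =>
      homEquivPoints (pow J) (Sigma.ι (fun _ : J => onePt Ω) j) := by
  classical
  constructor
  · intro i j hij
    by_contra hne
    let g : pow (Ω := Ω) J ⟶ coprodObj (onePt Ω) (onePt Ω) :=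
      Sigma.desc fun k => if k = i then inlHom _ _ else inrHom _ _
    have h := congrArg (fmap (idPt Ω) g) hij
    simp only [fmap_homEquivPoints] at h
    rw [show Sigma.ι (fun _ : J => onePt Ω) i ≫ g = inlHom _ _ by simp [g],
      show Sigma.ι (fun _ : J => onePt Ω) j ≫ g = inrHom _ _ by simp [g, Ne.symm hne]] at h
    have h' : (inlHom (onePt Ω) (onePt Ω)).left (pt₀ Ω) =
        (inrHom (onePt Ω) (onePt Ω)).left (pt₀ Ω) :=
      congrArg (fun s : FEt.fiberObj (idPt Ω) _ => s.1 (pt₀ Ω)) h
    exact Set.disjoint_left.1 (isCompl_inlHom (onePt Ω) (onePt Ω)).disjoint ⟨_, h'⟩ ⟨_, rfl⟩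
  · intro s
    obtain ⟨⟨j⟩, x, hx⟩ := Types.jointly_surjective _
      (isColimitOfPreserves (FEt.fiber (idPt Ω)) (colimit.isColimit
        (Discrete.functor fun _ : J => onePt Ω))) s
    refine ⟨j, ?_⟩
    rw [← hx]
    haveI := subsingleton_points_onePt (Ω := Ω)
    rw [Subsingleton.elim (α := FEt.fiberObj (idPt Ω) (onePt Ω)) x
      (homEquivPoints _ (𝟙 _))]
    exact (congrArg (homEquivPoints (pow J)) (Category.id_comp _).symm)

variable [IsAlgClosed Ω]

theorem faithful_fibre_point : (fibre (idPt Ω)).Faithful where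
  map_injective {Y Z} a b h := by
    have hab : ∀ s, fmap (idPt Ω) a s = fmap (idPt Ω) b s := fun s =>
      ConcreteCategory.congr_hom h s
    haveI : IsIso (equalizer.ι a b) := isIso_of_mono_of_surjective_fmap (idPt Ω) _ fun s => by
      obtain ⟨h₀, rfl⟩ := (homEquivPoints Y).surjective s
      have := hab (homEquivPoints Y h₀)
      rw [fmap_homEquivPoints, fmap_homEquivPoints] at this
      exact ⟨homEquivPoints _ (equalizer.lift h₀ ((homEquivPoints Z).injective this)),
        by rw [fmap_homEquivPoints, equalizer.lift_ι]⟩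
    exact (cancel_epi (equalizer.ι a b)).1 (equalizer.condition a b)

theorem full_fibre_point : (fibre (idPt Ω)).Full where
  map_surjective {Y Z} h := by
    let c : pow (FEt.fiberObj (idPt Ω) Y) ⟶ Y := Sigma.desc fun s => (homEquivPoints Y).symm s
    have hc : ∀ s, fmap (idPt Ω) c (homEquivPoints (pow (FEt.fiberObj (idPt Ω) Y))
        (Sigma.ι (fun _ => onePt Ω) s)) = s := fun s => by
      rw [fmap_homEquivPoints, Sigma.ι_desc, Equiv.apply_symm_apply]
    haveI : IsIso c := isIso_of_bijective_fmap (idPt Ω) c <| by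
      refine ⟨fun p q hpq => ?_, fun s => ⟨_, hc s⟩⟩
      obtain ⟨i, rfl⟩ := (bijective_points_pow _).2 p
      obtain ⟨j, rfl⟩ := (bijective_points_pow _).2 q
      simp only [hc] at hpq
      rw [hpq]
    let g : pow (FEt.fiberObj (idPt Ω) Y) ⟶ Z := Sigma.desc fun s => (homEquivPoints Z).symm (h s)
    refine ⟨inv c ≫ g, ConcreteCategory.hom_ext _ _ fun s => ?_⟩
    show fmap (idPt Ω) (inv c ≫ g) s = h s
    conv_lhs => rw [← hc s]
    rw [fmap_homEquivPoints, fmap_homEquivPoints, Category.assoc, IsIso.hom_inv_id_assoc,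
      Sigma.ι_desc, Equiv.apply_symm_apply]

theorem essSurj_fibre_point : (fibre (idPt Ω)).EssSurj where
  mem_essImage S :=
    ⟨pow (Ω := Ω) S.obj,
      ⟨(FintypeCat.equivEquivIso (Equiv.ofBijective _ (bijective_points_pow S.obj))).symm⟩⟩

theorem isEquivalence_fibre_point : (fibre (idPt Ω)).IsEquivalence where
  faithful := faithful_fibre_point
  full := full_fibre_point
  essSurj := essSurj_fibre_point

end Point

variable {X : Scheme.{u}} {Ω : Type u} [Field Ω] [IsAlgClosed Ω]
  (ξ : Spec (CommRingCat.of Ω) ⟶ X)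

/-- The fibre at `ξ` is restriction to `ξ` followed by the fibre functor of the point. -/
def restrictFibreIso : FEt.restrict ξ ⋙ fibre (idPt Ω) ≅ fibre ξ :=
  (Functor.whiskeringRight _ _ _).obj FintypeCat.incl |>.preimageIso (restrictFiberIso ξ)

instance preservesFiniteColimits_fibre : PreservesFiniteColimits (fibre ξ) := by
  haveI := isEquivalence_fibre_point (Ω := Ω)
  haveI : PreservesFiniteColimits (FEt.restrict ξ ⋙ fibre (idPt Ω)) :=
    comp_preservesFiniteColimits _ _
  exact preservesFiniteColimits_of_natIso (restrictFibreIso ξ)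

instance preservesFiniteColimits_fiber : PreservesFiniteColimits (FEt.fiber ξ) := by
  haveI : PreservesFiniteColimits (fibre ξ ⋙ FintypeCat.incl) := comp_preservesFiniteColimits _ _
  exact preservesFiniteColimits_of_natIso (fibreIncl ξ)

theorem singleObj_finCategory_equiv (G : Type u) [Group G] [Finite G] :
    ∃ (J : Type) (_ : SmallCategory J) (_ : FinCategory J), Nonempty (J ≌ SingleObj G) := by
  obtain ⟨G', hg, hf, ⟨e⟩⟩ := Finite.exists_type_univ_nonempty_mulEquiv.{u, 0} G
  exact ⟨SingleObj G', inferInstance, inferInstance, ⟨e.toSingleObjEquiv.symm⟩⟩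

theorem preGaloisCategory (X : Scheme.{u}) : PreGaloisCategory (FEt.Cat X) where
  hasQuotientsByFiniteGroups G _ _ := by
    obtain ⟨J, _, _, ⟨e⟩⟩ := singleObj_finCategory_equiv G
    exact hasColimitsOfShape_of_equivalence e
  monoInducesIsoOnDirectSummand i := mono_direct_summand i

theorem fiberFunctor [ConnectedSpace X] :
    @PreGaloisCategory.FiberFunctor _ _ (preGaloisCategory X) (fibre ξ) := by
  letI := preGaloisCategory X
  exact {
    preservesQuotientsByFiniteGroups := fun G _ _ => by
      obtain ⟨J, _, _, ⟨e⟩⟩ := singleObj_finCategory_equiv G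
      exact preservesColimitsOfShape_of_equiv e _
    reflectsIsos := reflectsIsomorphisms_fibre ξ }

end Groth.Agent.FEtGal
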