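import Mathlib
import Groth.Prelude.Def_FEt
import Groth.Agent.FEtGal.FibreFunctor
import Groth.Agent.GalUniq.Basic

/-!
# Finite étale covers of a connected scheme form a Galois category
-/

set_option autoImplicit false
set_option linter.style.haveILetI false
set_option backward.isDefEq.respectTransparency false

universe u

open CategoryTheory CategoryTheory.Limits AlgebraicGeometry

noncomputable section

namespace Groth.Agent.FEtGal

variable {X : Scheme.{u}} [ConnectedSpace X] {Ω Ω' : Type u} [Field Ω] [IsAlgClosed Ω]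
  [Field Ω'] [IsAlgClosed Ω'] (ξ : Spec (CommRingCat.of Ω) ⟶ X) (ξ' : Spec (CommRingCat.of Ω') ⟶ X)

include ξ in
theorem galoisCategory : GaloisCategory (FEt.Cat X) := by
  letI := preGaloisCategory X
  exact { hasFiberFunctor := ⟨fibre ξ, ⟨fiberFunctor ξ⟩⟩ }

theorem nonempty_fibre_iso : Nonempty (fibre ξ' ≅ fibre ξ) := by
  haveI := galoisCategory ξ
  haveI := fiberFunctor ξ
  exact GalUniq.nonempty_iso (fibre ξ) (fibre ξ')
    fun A => GalUniq.nonempty_of_preservesEpi (fibre ξ') A.obj

theorem nonempty_fiber_iso : Nonempty (FEt.fiber ξ ≅ FEt.fiber ξ') :=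
  let ⟨e⟩ := nonempty_fibre_iso ξ ξ'
  ⟨Functor.isoWhiskerRight e.symm FintypeCat.incl⟩

theorem isIso_fiber_natTrans (φ : FEt.fiber ξ ⟶ FEt.fiber ξ') : IsIso φ := by
  haveI := galoisCategory ξ
  haveI := fiberFunctor ξ
  let W := (Functor.whiskeringRight (FEt.Cat X) _ _).obj FintypeCat.incl.{u}
  obtain ⟨ψ, hψ⟩ := W.map_surjective (X := fibre ξ) (Y := fibre ξ') φ
  haveI := GalUniq.isIso_natTrans (fibre ξ) (fibre ξ') ψ
  rw [← hψ]
  infer_instance

end Groth.Agent.FEtGal
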